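import Cfsg.Agent.Lib.PSLSpectrum.OddPSL
import Cfsg.Agent.Lib.RecogThree.PSL2Orders
import Cfsg.Agent.Lib.Fusion.EAField

/-!
# `PSL₂(q)` is determined by its order and its element orders
-/

set_option autoImplicit false
set_option linter.unusedSectionVars false

namespace Cfsg.Agent.Lib.PSLSpectrum

open Cfsg.Agent.Lib.Involutions
open Cfsg.Agent.Lib.RecogThree.PSL2Orders (dd)

variable {G : Type*} [Group G] [Finite G]

/-- The case `q` even. -/
theorem iso_of_even {q : ℕ} (hq4 : 4 ≤ q) (hq : ∃ f, q = 2 ^ f)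
    (hcard : Nat.card G = q * (q ^ 2 - 1))
    (hspec : ∀ x : G, orderOf x ∣ 2 ∨ orderOf x ∣ q - 1 ∨ orderOf x ∣ q + 1)
    (hb : ∃ b : G, orderOf b = q + 1) :
    ∃ (K : Type) (_ : Field K) (_ : Fintype K), Fintype.card K = q ∧
      Nonempty (G ≃* Matrix.ProjectiveSpecialLinearGroup (Fin 2) K) := by
  classical
  obtain ⟨f, rfl⟩ := hq
  have hf : f ≠ 0 := fun e => by subst e; simp at hq4
  have : Fact (Nat.Prime 2) := ⟨Nat.prime_two⟩
  have he : Even (2 ^ f) := (Nat.even_pow' hf).2 even_two
  have h1m : Nat.Coprime 2 (2 ^ f - 1) :=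
    Nat.coprime_two_left.2 (Nat.Even.sub_odd (by omega) he odd_one)
  have h1p : Nat.Coprime 2 (2 ^ f + 1) := Nat.coprime_two_left.2 he.add_one
  have hexp : ∀ x : G, (∃ k, orderOf x = 2 ^ k) → x ^ 2 = 1 := by
    rintro x ⟨k, hk⟩
    have hodd : ∀ N : ℕ, Nat.Coprime 2 N → orderOf x ∣ N → x ^ 2 = 1 := fun N hN hd => by
      have h1 : orderOf x = 1 :=
        Nat.eq_one_of_dvd_coprimes (Nat.Coprime.pow_left k hN) (hk ▸ dvd_rfl) hd
      rw [orderOf_eq_one_iff.1 h1, one_pow]
    rcases hspec x with h | h | h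
    · exact orderOf_dvd_iff_pow_eq_one.1 h
    · exact hodd _ h1m h
    · exact hodd _ h1p h
  obtain ⟨T⟩ := (inferInstance : Nonempty (Sylow 2 G))
  have hsq : (2 ^ f) ^ 2 - 1 = (2 ^ f + 1) * (2 ^ f - 1) := by rw [← Nat.sq_sub_sq, one_pow]
  have hT : Nat.card (T : Subgroup G) = 2 ^ f := by
    rw [T.card_eq_multiplicity, hcard, Nat.factorization_mul (by positivity)
      (by rw [hsq]; exact Nat.mul_ne_zero (by omega) (by omega)), Finsupp.add_apply,
      Nat.Prime.factorization_pow Nat.prime_two, Finsupp.single_eq_same,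
      Nat.factorization_eq_zero_of_not_dvd, add_zero]
    rw [hsq]
    exact Nat.prime_two.coprime_iff_not_dvd.1 (Nat.Coprime.mul_right h1p h1m)
  have hTexp : ∀ y ∈ (T : Subgroup G), y ^ 2 = 1 := fun y hy => hexp y (by
    obtain ⟨k, hk⟩ := IsPGroup.iff_orderOf.1 T.2 ⟨y, hy⟩
    exact ⟨k, by rwa [Subgroup.orderOf_mk] at hk⟩)
  have hEA : Fusion.EACentralizers.EAHyp T := by
    refine ⟨fun hcyc => ?_, fun hN => ?_, fun t ht => ?_⟩
    · obtain ⟨y, hy⟩ := hcyc.exists_generator
      have h2 : orderOf y ∣ 2 := orderOf_dvd_of_pow_eq_one (Subtype.ext (by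
        rw [Subgroup.coe_pow, Subgroup.coe_one]; exact hTexp y y.2))
      rw [orderOf_eq_card_of_forall_mem_zpowers hy, hT] at h2
      have := Nat.le_of_dvd two_pos h2
      omega
    · obtain ⟨b, hb⟩ := hb
      set B := Subgroup.zpowers b
      letI : MulAction B {y : (T : Subgroup G) // y ≠ 1} :=
        { smul := fun z y => ⟨⟨(z : G) * (y.1 : G) * (z : G)⁻¹, hN.conj_mem _ y.1.2 _⟩, fun e => y.2 (by
            have e' : (z : G) * (y.1 : G) * (z : G)⁻¹ = 1 := congrArg Subtype.val e
            exact Subtype.ext (by simpa using e'))⟩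
          one_smul := fun y => Subtype.ext (Subtype.ext (by
            show (1 : G) * (y.1 : G) * (1 : G)⁻¹ = y.1
            group))
          mul_smul := fun z w y => Subtype.ext (Subtype.ext (by
            show ((z * w : B) : G) * (y.1 : G) * ((z * w : B) : G)⁻¹ =
              (z : G) * ((w : G) * (y.1 : G) * (w : G)⁻¹) * (z : G)⁻¹
            rw [Subgroup.coe_mul]; group)) }
      have hstab : ∀ y : {y : (T : Subgroup G) // y ≠ 1}, MulAction.stabilizer B y = ⊥ := by
        intro y
        refine (Subgroup.eq_bot_iff_forall _).2 fun z hz => ?_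
        by_contra hz1
        have e : (z : G) * (y.1 : G) * (z : G)⁻¹ = y.1 :=
          congrArg (fun w : {y : (T : Subgroup G) // y ≠ 1} => ((w.1 : (T : Subgroup G)) : G))
            (MulAction.mem_stabilizer_iff.1 hz)
        have hy2 : orderOf (y.1 : G) = 2 := by
          rw [orderOf_eq_prime_iff]
          exact ⟨hTexp _ y.1.2, fun e1 => y.2 (Subtype.ext e1)⟩
        have hz2 : orderOf (z : G) ∣ 2 ^ f + 1 := by
          rw [← hb, ← Nat.card_zpowers b]; exact Subgroup.orderOf_dvd_natCard _ z.2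
        have h3 := orderOf_dvd_of_commute (A := 2) h1m h1p hspec (x := (z : G)) (y := (y.1 : G))
          (fun e1 => y.2 (Subtype.ext e1)) hy2.dvd (mul_inv_eq_iff_eq_mul.1 e)
        exact hz1 (Subtype.ext (orderOf_eq_one_iff.1 (Nat.eq_one_of_dvd_coprimes h1p h3 hz2)))
      have hdvd : Nat.card B ∣ Nat.card {y : (T : Subgroup G) // y ≠ 1} := by
        rw [Nat.card_congr (MulAction.selfEquivSigmaOrbits B {y : (T : Subgroup G) // y ≠ 1})]
        have := Fintype.ofFinite (Quotient (MulAction.orbitRel B {y : (T : Subgroup G) // y ≠ 1}))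
        rw [Nat.card_sigma]
        refine Finset.dvd_sum fun w _ => ?_
        rw [Nat.card_congr (MulAction.orbitEquivQuotientStabilizer B w.out), ← Subgroup.index,
          hstab, Subgroup.index_bot]
      have := Fintype.ofFinite (T : Subgroup G)
      rw [Nat.card_zpowers, hb, Nat.card_eq_fintype_card, Fintype.card_subtype_compl,
        Fintype.card_subtype_eq, ← Nat.card_eq_fintype_card, hT] at hdvd
      have := Nat.le_of_dvd (by omega) hdvd
      omega
    · have hC : ∀ c ∈ Subgroup.centralizer ({t} : Set G), c * c = 1 := fun c hc => by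
        rw [← pow_two, ← orderOf_dvd_iff_pow_eq_one]
        exact orderOf_dvd_of_commute (A := 2) h1m h1p hspec
          (fun e => by rw [e, orderOf_one] at ht; omega) ht.dvd
          (Subgroup.mem_centralizer_singleton_iff.1 hc)
      refine ⟨⟨⟨fun x y => Subtype.ext ?_⟩⟩, fun c hc => by rw [pow_two]; exact hC c hc⟩
      have hx := inv_eq_of_mul_eq_one_right (hC x x.2)
      have hy := inv_eq_of_mul_eq_one_right (hC y y.2)
      have hxy := inv_eq_of_mul_eq_one_right (hC _ (mul_mem x.2 y.2))
      rw [mul_inv_rev, hx, hy] at hxy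
      exact hxy.symm
  obtain ⟨K, iK, iF, hK, hiso⟩ := hEA.nonempty_mulEquiv_psl
  exact ⟨K, iK, iF, hK.trans hT, hiso⟩

theorem iso_psl_two {F : Type*} [Field F] [Fintype F] (hF : 3 < Fintype.card F)
    (hspec : Set.range (orderOf : G → ℕ) =
      Set.range (orderOf : Matrix.ProjectiveSpecialLinearGroup (Fin 2) F → ℕ))
    (hcard : Nat.card G = Nat.card (Matrix.ProjectiveSpecialLinearGroup (Fin 2) F)) :
    Nonempty (G ≃* Matrix.ProjectiveSpecialLinearGroup (Fin 2) F) := by
  classical
  set p := ringChar F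
  have : CharP F p := ringChar.charP F
  have : Fact p.Prime := ⟨CharP.char_is_prime F p⟩
  rw [RecogThree.PSL2Orders.range_orderOf (F := F) p] at hspec
  set q := Fintype.card F with hqdef
  obtain ⟨n, -, hn⟩ := FiniteField.card F p
  rw [← hqdef] at hn
  have hs : ∀ x : G, orderOf x ∣ p ∨ orderOf x ∣ (q - 1) / dd q ∨ orderOf x ∣ (q + 1) / dd q := fun x => by
    have h1 : orderOf x ∈ Set.range (orderOf : G → ℕ) := ⟨x, rfl⟩
    rw [hspec] at h1
    exact h1
  have hex : ∀ m, (m ∣ (q - 1) / dd q ∨ m ∣ (q + 1) / dd q) → ∃ x : G, orderOf x = m := fun m hm => by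
    have h1 : m ∈ Set.range (orderOf : G → ℕ) := by rw [hspec]; exact Or.inr hm
    exact h1
  suffices h : ∃ (K : Type) (_ : Field K) (_ : Fintype K), Fintype.card K = q ∧
      Nonempty (G ≃* Matrix.ProjectiveSpecialLinearGroup (Fin 2) K) by
    obtain ⟨K, iK, iF, hK, ⟨i⟩⟩ := h
    obtain ⟨j⟩ := SmallGroups.ProjLine.psl_congr_card (F := K) (F' := F) hK
    exact ⟨i.trans j⟩
  by_cases heven : 2 ∣ q
  · have hdd : dd q = 1 := if_pos heven
    rw [hdd, Nat.div_one, Nat.div_one] at hs hex
    have hp2 : p = 2 :=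
      ((Nat.prime_dvd_prime_iff_eq Nat.prime_two Fact.out).1
        (Nat.prime_two.dvd_of_dvd_pow (hn ▸ heven))).symm
    rw [hp2] at hs hn
    exact iso_of_even (by omega) ⟨n, hn⟩
      (by rw [hcard, Linear.card_PSL_two_of_even (even_iff_two_dvd.2 heven),
        show q ^ 2 - 1 = (q + 1) * (q - 1) by rw [← Nat.sq_sub_sq, one_pow], hqdef]; ring) hs
      (hex _ (Or.inr dvd_rfl))
  · have hdd : dd q = 2 := if_neg heven
    rw [hdd] at hs hex
    have hodd : Odd q := Nat.not_even_iff_odd.1 (mt even_iff_two_dvd.1 heven)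
    have hc := Linear.two_mul_card_PSL_two_of_odd (F := F) hodd
    rw [← hcard, ← hqdef] at hc
    obtain ⟨j, hj⟩ := hodd
    have hqp : ∃ f, f ≠ 0 ∧ q = p ^ f := ⟨n, n.pos.ne', hn⟩
    rcases Nat.even_or_odd j with hje | hjo
    · obtain ⟨k, hk⟩ := id hje
      have hh : OddHyp G p q j (j + 1) :=
        { hp := Fact.out
          hqp := hqp
          hML := Or.inl ⟨hj, rfl⟩
          hM := hje
          hL := by omega
          card := by
            rw [hj, Nat.add_sub_cancel] at hc
            refine Nat.eq_of_mul_eq_mul_left two_pos (hc.trans ?_)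
            rw [hj]; ring
          spec := fun x => by
            have h1 := hs x
            rwa [show (q - 1) / 2 = j by omega, show (q + 1) / 2 = j + 1 by omega] at h1
          hA := hex _ (Or.inl (by rw [show (q - 1) / 2 = j by omega]))
          hB := hex _ (Or.inr (by rw [show (q + 1) / 2 = j + 1 by omega])) }
      exact hh.iso_psl
    · obtain ⟨k, hk⟩ := id hjo
      have hh : OddHyp G p q (j + 1) j :=
        { hp := Fact.out
          hqp := hqp
          hML := Or.inr ⟨by omega, rfl⟩
          hM := hjo.add_one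
          hL := by omega
          card := by
            rw [hj, Nat.add_sub_cancel] at hc
            refine Nat.eq_of_mul_eq_mul_left two_pos (hc.trans ?_)
            rw [hj]; ring
          spec := fun x => by
            have h1 := hs x
            rw [show (q - 1) / 2 = j by omega, show (q + 1) / 2 = j + 1 by omega] at h1
            tauto
          hA := hex _ (Or.inr (by rw [show (q + 1) / 2 = j + 1 by omega]))
          hB := hex _ (Or.inl (by rw [show (q - 1) / 2 = j by omega])) }
      exact hh.iso_psl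

end Cfsg.Agent.Lib.PSLSpectrum
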