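import Mathlib
import Cfsg.Agent.Lib.BSW.Counting
import Cfsg.Agent.Lib.Involutions.Thompson
import Cfsg.Agent.Lib.Fusion.Thompson

/-!
# Groups with the order and the element orders of `PSL₂(q)`, `q` odd: basic facts

`q` is a power of `p`, `{M, L} = {(q-1)/2, (q+1)/2}` with `M` even, `L` odd, `|G| = 2qML`, every
element order divides `p`, `M` or `L`, and there are elements of orders `M` and `L`.
-/

set_option autoImplicit false
set_option linter.unusedSectionVars false

namespace Cfsg.Agent.Lib.PSLSpectrum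

variable {G : Type*} [Group G] [Finite G]

/-- If every element order divides one of three pairwise coprime numbers, a non-identity element
of order dividing the first commutes only with such elements. -/
theorem orderOf_dvd_of_commute {A B C : ℕ} (hAB : A.Coprime B) (hAC : A.Coprime C)
    (hspec : ∀ z : G, orderOf z ∣ A ∨ orderOf z ∣ B ∨ orderOf z ∣ C)
    {x y : G} (hy : y ≠ 1) (hyA : orderOf y ∣ A) (hxy : Commute x y) : orderOf x ∣ A := by
  by_contra hxA
  obtain ⟨r, hr, hry⟩ := Nat.exists_prime_and_dvd (mt orderOf_eq_one_iff.1 hy)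
  have hx1 : orderOf x ≠ 1 := fun h => hxA (h ▸ one_dvd A)
  obtain ⟨s, hs, hsx⟩ := Nat.exists_prime_and_dvd hx1
  have hrA : r ∣ A := hry.trans hyA
  obtain ⟨D, hD, hAD⟩ : ∃ D, orderOf x ∣ D ∧ A.Coprime D := by
    rcases hspec x with h | h | h
    · exact absurd h hxA
    · exact ⟨B, h, hAB⟩
    · exact ⟨C, h, hAC⟩
  have hrs : r.Coprime s := (hAD.coprime_dvd_left hrA).coprime_dvd_right (hsx.trans hD)
  have hx' := orderOf_pow_orderOf_div (orderOf_pos x).ne' hsx
  have hy' := orderOf_pow_orderOf_div (orderOf_pos y).ne' hry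
  have hc : Commute (y ^ (orderOf y / r)) (x ^ (orderOf x / s)) := hxy.symm.pow_pow _ _
  have ho := hc.orderOf_mul_eq_mul_orderOf_of_coprime (by rw [hx', hy']; exact hrs)
  rw [hx', hy'] at ho
  have hone : ∀ {n : ℕ}, n.Coprime A → r ∣ n → False := fun hn hrn =>
    hr.not_dvd_one (hn ▸ Nat.dvd_gcd hrn hrA)
  rcases hspec (y ^ (orderOf y / r) * x ^ (orderOf x / s)) with h | h | h <;> rw [ho] at h
  · exact hs.not_dvd_one (hAD ▸ Nat.dvd_gcd ((dvd_mul_left s r).trans h) (hsx.trans hD))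
  · exact hone hAB.symm ((dvd_mul_right r s).trans h)
  · exact hone hAC.symm ((dvd_mul_right r s).trans h)

/-- A subgroup all of whose element orders divide `A` has order dividing the `A`-part of `|G|`. -/
theorem card_dvd_of_orders {A D E : ℕ} (hG : Nat.card G = D * E) (hAE : A.Coprime E)
    {H : Subgroup G} (hH : ∀ x ∈ H, orderOf x ∣ A) : Nat.card H ∣ D := by
  have hco : (Nat.card H).Coprime E := by
    refine Nat.coprime_of_dvd fun r hr hrH hrE => ?_
    have := Fact.mk hr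
    obtain ⟨x, hx⟩ := exists_prime_orderOf_dvd_card' r hrH
    have h1 := hH x x.2
    rw [Subgroup.orderOf_coe, hx] at h1
    exact hr.not_dvd_one (hAE ▸ Nat.dvd_gcd h1 hrE)
  exact hco.dvd_of_dvd_mul_right (hG ▸ H.card_subgroup_dvd_card)

/-- An element whose order is prime to the index of a normal subgroup lies in it. -/
theorem mem_of_coprime_index {H : Subgroup G} [H.Normal] {x : G}
    (hx : (orderOf x).Coprime H.index) : x ∈ H := by
  rw [← QuotientGroup.eq_one_iff, ← orderOf_eq_one_iff]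
  refine Nat.eq_one_of_dvd_coprimes hx (orderOf_map_dvd (QuotientGroup.mk' H) x) ?_
  rw [Subgroup.index_eq_card]
  exact orderOf_dvd_natCard _

/-- An element normalising `H`, of order prime to `|N(H) : H|`, lies in `H`. -/
theorem mem_of_mem_normalizer {H : Subgroup G} {x : G}
    (hxN : x ∈ Subgroup.normalizer (H : Set G))
    (hx : (orderOf x).Coprime (H.relIndex (Subgroup.normalizer (H : Set G)))) : x ∈ H := by
  have := Subgroup.normal_in_normalizer (H := H)
  exact Subgroup.mem_subgroupOf.1 (mem_of_coprime_index (H := H.subgroupOf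
    (Subgroup.normalizer (H : Set G))) (x := ⟨x, hxN⟩) (by rwa [Subgroup.orderOf_mk]))

/-- The orders and element orders of `PSL₂(q)`, `q` odd. -/
structure OddHyp (G : Type*) [Group G] (p q M L : ℕ) : Prop where
  hp : p.Prime
  hqp : ∃ f, f ≠ 0 ∧ q = p ^ f
  hML : (q = 2 * M + 1 ∧ L = M + 1) ∨ (q + 1 = 2 * M ∧ M = L + 1)
  hM : Even M
  hL : 3 ≤ L
  card : Nat.card G = 2 * q * M * L
  spec : ∀ x : G, orderOf x ∣ p ∨ orderOf x ∣ M ∨ orderOf x ∣ L
  hA : ∃ a : G, orderOf a = M
  hB : ∃ b : G, orderOf b = L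

variable {p q M L : ℕ}

namespace OddHyp

variable (h : OddHyp G p q M L)
include h

theorem M_pos : 0 < M := by
  have := h.hL
  rcases h.hML with h1 | h1 <;> omega

theorem two_le_M : 2 ≤ M := by
  obtain ⟨k, hk⟩ := h.hM
  have := h.M_pos
  omega

theorem five_le_q : 5 ≤ q := by
  have := h.hL
  have := h.two_le_M
  rcases h.hML with h1 | h1 <;> omega

theorem q_odd : Odd q := by
  refine Nat.odd_iff.2 ?_
  rcases h.hML with h1 | h1 <;> omega

theorem L_odd : Odd L := by
  obtain ⟨k, hk⟩ := h.hM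
  refine Nat.odd_iff.2 ?_
  rcases h.hML with h1 | h1 <;> omega

theorem p_dvd_q : p ∣ q := by
  obtain ⟨f, hf, rfl⟩ := h.hqp
  exact dvd_pow_self p hf

theorem cop_ML : M.Coprime L := by
  rcases h.hML with ⟨-, h1⟩ | ⟨-, h1⟩ <;> rw [h1]
  · simp [Nat.coprime_self_add_right]
  · simp [Nat.coprime_add_self_left]

theorem cop_qM : q.Coprime M := by
  rcases h.hML with ⟨h1, -⟩ | ⟨h1, -⟩
  · rw [h1]; simp
  · refine Nat.coprime_of_dvd' fun r _ h2 h3 => ?_
    have := Nat.dvd_sub (h1 ▸ h3.mul_left 2) h2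
    simpa using this

theorem cop_qL : q.Coprime L := by
  rcases h.hML with ⟨h1, h2⟩ | ⟨h1, h2⟩
  · refine Nat.coprime_of_dvd' fun r _ h3 h4 => ?_
    have h5 := Nat.dvd_sub (h4.mul_left 2) h3
    rwa [show 2 * L - q = 1 by omega] at h5
  · refine Nat.coprime_of_dvd' fun r _ h3 h4 => ?_
    have h5 := Nat.dvd_sub h3 (h4.mul_left 2)
    rwa [show q - 2 * L = 1 by omega] at h5

theorem cop_pM : p.Coprime M := h.cop_qM.coprime_dvd_left h.p_dvd_q

theorem cop_pL : p.Coprime L := h.cop_qL.coprime_dvd_left h.p_dvd_q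

theorem cop_two_L : (2 : ℕ).Coprime L := Nat.coprime_two_left.2 h.L_odd

theorem cop_L_qM : L.Coprime (2 * q * M) :=
  Nat.Coprime.mul_right (Nat.Coprime.mul_right h.cop_two_L.symm h.cop_qL.symm) h.cop_ML.symm

theorem cop_M_qL : M.Coprime (q * L) := Nat.Coprime.mul_right h.cop_qM.symm h.cop_ML

theorem dvd_L_of_commute {x y : G} (hy : y ≠ 1) (hyL : orderOf y ∣ L) (hxy : Commute x y) :
    orderOf x ∣ L :=
  orderOf_dvd_of_commute h.cop_pL.symm h.cop_ML.symm
    (fun z => by rcases h.spec z with h1 | h1 | h1 <;> simp [h1]) hy hyL hxy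

theorem dvd_M_of_commute {x y : G} (hy : y ≠ 1) (hyM : orderOf y ∣ M) (hxy : Commute x y) :
    orderOf x ∣ M :=
  orderOf_dvd_of_commute h.cop_pM.symm h.cop_ML
    (fun z => by rcases h.spec z with h1 | h1 | h1 <;> simp [h1]) hy hyM hxy

theorem dvd_p_of_commute {x y : G} (hy : y ≠ 1) (hyp : orderOf y ∣ p) (hxy : Commute x y) :
    orderOf x ∣ p :=
  orderOf_dvd_of_commute h.cop_pM h.cop_pL h.spec hy hyp hxy

theorem card_centralizer_L {y : G} (hy : y ≠ 1) (hyL : orderOf y ∣ L) :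
    Nat.card (Subgroup.centralizer ({y} : Set G)) ∣ L :=
  card_dvd_of_orders (A := L) (E := 2 * q * M) (by rw [h.card]; ring) h.cop_L_qM fun x hx =>
    h.dvd_L_of_commute hy hyL (Subgroup.mem_centralizer_singleton_iff.1 hx)

theorem card_centralizer_M {y : G} (hy : y ≠ 1) (hyM : orderOf y ∣ M) :
    Nat.card (Subgroup.centralizer ({y} : Set G)) ∣ 2 * M :=
  card_dvd_of_orders (A := M) (E := q * L) (by rw [h.card]; ring) h.cop_M_qL fun x hx =>
    h.dvd_M_of_commute hy hyM (Subgroup.mem_centralizer_singleton_iff.1 hx)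

theorem card_centralizer_p {y : G} (hy : y ≠ 1) (hyp : orderOf y ∣ p) :
    Nat.card (Subgroup.centralizer ({y} : Set G)) ∣ q := by
  refine card_dvd_of_orders (A := p) (E := 2 * M * L) (by rw [h.card]; ring) ?_ fun x hx =>
    h.dvd_p_of_commute hy hyp (Subgroup.mem_centralizer_singleton_iff.1 hx)
  exact Nat.Coprime.mul_right (Nat.Coprime.mul_right
    ((Nat.coprime_two_right.2 (h.q_odd.of_dvd_nat h.p_dvd_q))) h.cop_pM) h.cop_pL

theorem qM_mod : (q * M) % L = 1 := by
  have := h.hL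
  rcases h.hML with ⟨h1, h2⟩ | ⟨h1, h2⟩
  · obtain ⟨j, hj⟩ : ∃ j, M = j + 2 := ⟨M - 2, by have := h.two_le_M; omega⟩
    subst h1 h2 hj
    rw [show (2 * (j + 2) + 1) * (j + 2) = 1 + (2 * j + 3) * (j + 2 + 1) by ring,
      Nat.add_mul_mod_self_right, Nat.one_mod_eq_one.2 (by omega)]
  · obtain ⟨rfl⟩ : q = 2 * L + 1 ∧ True := ⟨by omega, trivial⟩
    subst h2
    rw [show (2 * L + 1) * (L + 1) = 1 + (2 * L + 3) * L by ring,
      Nat.add_mul_mod_self_right, Nat.one_mod_eq_one.2 (by omega)]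

theorem qL_mod : (q * L) % M = 1 := by
  have := h.two_le_M
  rcases h.hML with ⟨h1, h2⟩ | ⟨h1, h2⟩
  · subst h1 h2
    rw [show (2 * M + 1) * (M + 1) = 1 + (2 * M + 3) * M by ring,
      Nat.add_mul_mod_self_right, Nat.one_mod_eq_one.2 (by omega)]
  · obtain ⟨j, rfl⟩ : ∃ j, L = j + 1 := ⟨L - 1, by have := h.hL; omega⟩
    obtain ⟨rfl⟩ : q = 2 * j + 3 ∧ True := ⟨by omega, trivial⟩
    subst h2
    rw [show (2 * j + 3) * (j + 1) = 1 + (2 * j + 1) * (j + 1 + 1) by ring,
      Nat.add_mul_mod_self_right, Nat.one_mod_eq_one.2 (by omega)]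

end OddHyp

end Cfsg.Agent.Lib.PSLSpectrum
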