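import Cfsg.Agent.Lib.PSLSpectrum.Basic

/-!
# The subgroup of order `L`, no subgroup of index two, one class of involutions
-/

set_option autoImplicit false
set_option linter.unusedSectionVars false

namespace Cfsg.Agent.Lib.PSLSpectrum

open Cfsg.Agent.Lib.Involutions

variable {G : Type*} [Group G] [Finite G]

/-- The number of conjugates of `x`, times `|C(x)|`. -/
theorem class_ge {D E : ℕ} (hG : Nat.card G = D * E) (hD : 0 < D) {x : G}
    (hx : Nat.card (Subgroup.centralizer ({x} : Set G)) ∣ D) :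
    E ≤ Nat.card {u : G // IsConj x u} := by
  have h1 := Thompson.card_class_mul x
  have h2 := Nat.le_of_dvd hD hx
  rw [hG] at h1
  refine Nat.le_of_mul_le_mul_left ?_ hD
  rw [← h1, mul_comm D]
  exact Nat.mul_le_mul_left _ h2

namespace OddHyp

variable {p q M L : ℕ} (h : OddHyp G p q M L)
include h

/-- The non-identity elements of order dividing `L` are at least `qM(L-1)`. -/
theorem card_L_elements : q * M * (L - 1) ≤ Nat.card {y : G // y ≠ 1 ∧ orderOf y ∣ L} := by
  classical
  obtain ⟨b, hb⟩ := h.hB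
  have hL := h.hL
  set B := Subgroup.zpowers b with hBdef
  set N := Subgroup.normalizer (B : Set G) with hNdef
  have hcardB : Nat.card B = L := by rw [hBdef, Nat.card_zpowers, hb]
  have hordB : ∀ y ∈ B, orderOf y ∣ L := fun y hy => hcardB ▸ Subgroup.orderOf_dvd_natCard _ hy
  have hCB : ∀ y ∈ B, y ≠ 1 → Subgroup.centralizer ({y} : Set G) = B := by
    intro y hy hy1
    refine (Subgroup.eq_of_le_of_card_ge (fun z hz => ?_) ?_).symm
    · rw [Subgroup.mem_centralizer_singleton_iff]
      exact congrArg Subtype.val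
        ((IsCyclic.commGroup (α := B)).mul_comm ⟨z, hz⟩ ⟨y, hy⟩)
    · rw [hcardB]
      exact Nat.le_of_dvd (by omega) (h.card_centralizer_L hy1 (hordB y hy))
  have hTI : ∀ y ∈ B, y ≠ 1 → ∀ g : G, g * y * g⁻¹ ∈ B → g ∈ N := by
    intro y hy hy1 g hg
    have hg1 : g * y * g⁻¹ ≠ 1 := fun e => hy1 (by simpa using e)
    refine Subgroup.mem_normalizer_iff.2 fun z => ?_
    rw [← hCB y hy hy1]
    constructor <;> intro hz
    · rw [hCB y hy hy1, ← hCB _ hg hg1]
      rw [Subgroup.mem_centralizer_singleton_iff] at hz ⊢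
      calc g * z * g⁻¹ * (g * y * g⁻¹) = g * (z * y) * g⁻¹ := by group
        _ = g * y * g⁻¹ * (g * z * g⁻¹) := by rw [hz]; group
    · rw [hCB y hy hy1, ← hCB _ hg hg1] at hz
      rw [Subgroup.mem_centralizer_singleton_iff] at hz ⊢
      calc z * y = g⁻¹ * (g * z * g⁻¹ * (g * y * g⁻¹)) * g := by group
        _ = y * z := by rw [hz]; group
  have hBN : B ≤ N := Subgroup.le_normalizer
  set j := B.relIndex N with hjdef
  have hjL : j * L = Nat.card N := by
    rw [hjdef, Subgroup.relIndex, ← hcardB,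
      ← Nat.card_congr (Subgroup.subgroupOfEquivOfLe hBN).toEquiv, mul_comm]
    exact Subgroup.card_mul_index _
  have hNidx : j * N.index = 2 * q * M := by
    have h1 := Subgroup.card_mul_index N
    rw [← hjL, h.card] at h1
    refine Nat.eq_of_mul_eq_mul_left (show 0 < L by omega) ?_
    rw [← mul_assoc, mul_comm L j, h1]
    ring
  have hfree : ∀ g : G, g ∉ N → ∀ a ∈ B, g⁻¹ * a * g ∈ N → a = 1 := by
    intro g hg a ha hag
    by_contra ha1
    refine hg (inv_mem_iff.1 (hTI a ha ha1 g⁻¹ ?_))
    rw [inv_inv]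
    refine mem_of_mem_normalizer hag (Nat.Coprime.coprime_dvd_left ?_
      (h.cop_L_qM.coprime_dvd_right (Dvd.intro _ hNidx)))
    have := orderOf_injective (MulAut.conj g⁻¹).toMonoidHom (MulAut.conj g⁻¹).injective a
    simp only [MulEquiv.coe_toMonoidHom, MulAut.conj_apply, inv_inv] at this
    exact this ▸ hordB a ha
  have hmod := BSW.index_mod_card B N hBN hfree
  rw [hcardB] at hmod
  have hjlt : j ≤ L - 1 := by
    rw [hjdef, Subgroup.relIndex, Subgroup.index_eq_card, ← hcardB]
    have hne : ∀ n : N, (⟨(n : G) * b * (n : G)⁻¹,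
        (Subgroup.mem_normalizer_iff.1 n.2 b).1 (Subgroup.mem_zpowers b)⟩ : B) ≠ 1 := by
      intro n e
      have e1 : (n : G) * b * (n : G)⁻¹ = 1 := congrArg Subtype.val e
      have e2 : b = 1 := by simpa using e1
      rw [e2, orderOf_one] at hb
      omega
    have hone : Nat.card {z : B // z ≠ 1} = Nat.card B - 1 := by
      have := Fintype.ofFinite B
      rw [Nat.card_eq_fintype_card, Nat.card_eq_fintype_card, Fintype.card_subtype,
        Finset.filter_ne', Finset.card_erase_of_mem (Finset.mem_univ _), Finset.card_univ]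
    rw [← hone]
    have hb1 : b ≠ 1 := fun e => by rw [e, orderOf_one] at hb; omega
    refine Nat.card_le_card_of_injective (fun x => (⟨_, hne x.out⟩ : {z : B // z ≠ 1})) ?_
    intro x x' hxx
    have e : (x.out : G) * b * (x.out : G)⁻¹ = (x'.out : G) * b * (x'.out : G)⁻¹ :=
      congrArg (fun z : {z : B // z ≠ 1} => ((z : B) : G)) hxx
    rw [← QuotientGroup.out_eq' x, ← QuotientGroup.out_eq' x', QuotientGroup.eq,
      Subgroup.mem_subgroupOf]
    refine (SetLike.ext_iff.1 (hCB b (Subgroup.mem_zpowers b) hb1) _).1 ?_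
    rw [Subgroup.mem_centralizer_singleton_iff]
    push_cast
    calc (x.out : G)⁻¹ * x'.out * b = (x.out : G)⁻¹ * ((x'.out : G) * b * (x'.out : G)⁻¹) * x'.out := by
          group
      _ = b * ((x.out : G)⁻¹ * x'.out) := by rw [← e]; group
  have hj2 : j = 2 := by
    obtain ⟨c, hc⟩ := hmod
    have hi1 : 1 ≤ N.index := Nat.one_le_iff_ne_zero.2 Subgroup.index_ne_zero_of_finite
    have h1 : (2 * q * M) % L = j % L := by
      rw [← hNidx, show N.index = 1 + L * c by omega, show j * (1 + L * c) = j + L * (j * c) by ring,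
        Nat.add_mul_mod_self_left]
    rw [mul_assoc, Nat.mul_mod, h.qM_mod, Nat.mod_eq_of_lt (show j < L by omega), mul_one,
      Nat.mod_mod, Nat.mod_eq_of_lt (show 2 < L by omega)] at h1
    exact h1.symm
  have hcount := BSW.card_conjSet B N hTI (fun n hn x hx => (Subgroup.mem_normalizer_iff.1 hn x).1 hx)
  rw [hcardB, h.card, ← hjL, hj2] at hcount
  have h2 : Nat.card {y : G // y ≠ 1 ∧ ∃ g : G, g * y * g⁻¹ ∈ B} = q * M * (L - 1) :=
    Nat.eq_of_mul_eq_mul_right (show 0 < 2 * L by omega) (hcount.trans (by ring))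
  rw [← h2]
  refine Nat.card_le_card_of_injective (fun y => ⟨y.1, y.2.1, ?_⟩) ?_
  · obtain ⟨g, hg⟩ := y.2.2
    rw [← Basic.orderOf_conj_eq g y.1]
    exact hordB _ hg
  · intro y y' e
    exact Subtype.ext (congrArg Subtype.val e :)

theorem M_elem_ne_one {x : G} (hx : orderOf x = 2) : x ≠ 1 ∧ orderOf x ∣ M :=
  ⟨fun e => by rw [e, orderOf_one] at hx; omega, hx ▸ h.hM.two_dvd⟩

/-- An involution class has at least `qL` members. -/
theorem class_invol {x : G} (hx : orderOf x = 2) : q * L ≤ Nat.card {u : G // IsConj x u} := by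
  obtain ⟨h1, h2⟩ := h.M_elem_ne_one hx
  exact class_ge (D := 2 * M) (by rw [h.card]; ring) (by have := h.M_pos; omega)
    (h.card_centralizer_M h1 h2)

/-- A class of `p`-elements has at least `2ML` members. -/
theorem class_p {x : G} (hx : orderOf x = p) : 2 * M * L ≤ Nat.card {u : G // IsConj x u} :=
  class_ge (D := q) (by rw [h.card]; ring) (by have := h.five_le_q; omega)
    (h.card_centralizer_p (fun e => h.hp.ne_one (by rw [← hx, e, orderOf_one])) (hx ▸ dvd_rfl))

theorem exists_p : ∃ x : G, orderOf x = p := by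
  have := Fact.mk h.hp
  exact exists_prime_orderOf_dvd_card' p
    (h.card ▸ ((h.p_dvd_q.mul_left 2).mul_right M).mul_right L)

theorem orderOf_eq_of_isConj {x u : G} (hu : IsConj x u) : orderOf u = orderOf x := by
  obtain ⟨g, rfl⟩ := isConj_iff.1 hu
  exact Basic.orderOf_conj_eq g x

/-- No subgroup of index two. -/
theorem no_index_two (N : Subgroup G) : N.index ≠ 2 := by
  classical
  intro hN
  have := Subgroup.normal_of_index_eq_two hN
  have hcard : Nat.card N = q * M * L := by
    have h1 := Subgroup.card_mul_index N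
    rw [hN, h.card] at h1
    exact Nat.eq_of_mul_eq_mul_right two_pos (h1.trans (by ring))
  have heven : Even (Nat.card N) := by
    rw [hcard]; exact (h.hM.mul_left q).mul_right L
  have : Fact (Nat.Prime 2) := ⟨Nat.prime_two⟩
  obtain ⟨i, hi⟩ := exists_prime_orderOf_dvd_card' (G := N) 2 heven.two_dvd
  have hi' : orderOf (i : G) = 2 := by rw [Subgroup.orderOf_coe, hi]
  obtain ⟨x, hx⟩ := h.exists_p
  have hxN : x ∈ N := mem_of_coprime_index (by
    rw [hN, hx]; exact Nat.coprime_two_right.2 (h.q_odd.of_dvd_nat h.p_dvd_q))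
  have := Fintype.ofFinite G
  let S₁ := (Finset.univ : Finset G).filter fun u => IsConj (i : G) u
  let S₂ := (Finset.univ : Finset G).filter fun u => IsConj x u
  let S₃ := (Finset.univ : Finset G).filter fun y => y ≠ 1 ∧ orderOf y ∣ L
  have e : ∀ (P : G → Prop) [DecidablePred P],
      Nat.card {u : G // P u} = ((Finset.univ : Finset G).filter P).card := fun P _ => by
    rw [Nat.card_eq_fintype_card, Fintype.card_subtype]
  have h1 : q * L ≤ S₁.card := (h.class_invol hi').trans_eq (e _)
  have h2 : 2 * M * L ≤ S₂.card := (h.class_p hx).trans_eq (e _)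
  have h3 : q * M * (L - 1) ≤ S₃.card := h.card_L_elements.trans_eq (e _)
  have hsub : S₁ ∪ S₂ ∪ S₃ ⊆ (Finset.univ : Finset G).filter fun u => u ∈ N := by
    intro u hu
    simp only [S₁, S₂, S₃, Finset.mem_union, Finset.mem_filter, Finset.mem_univ, true_and] at hu ⊢
    rcases hu with (hu | hu) | hu
    · obtain ⟨g, rfl⟩ := isConj_iff.1 hu
      exact (inferInstance : N.Normal).conj_mem _ i.2 g
    · obtain ⟨g, rfl⟩ := isConj_iff.1 hu
      exact (inferInstance : N.Normal).conj_mem _ hxN g
    · exact mem_of_coprime_index (by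
        rw [hN]; exact Nat.coprime_two_right.2 (h.L_odd.of_dvd_nat hu.2))
  have hd12 : Disjoint S₁ S₂ := Finset.disjoint_left.2 fun u hu hu' => by
    simp only [S₁, S₂, Finset.mem_filter, Finset.mem_univ, true_and] at hu hu'
    have := h.orderOf_eq_of_isConj hu
    rw [h.orderOf_eq_of_isConj hu', hx, hi'] at this
    have := h.q_odd.of_dvd_nat h.p_dvd_q
    rw [‹p = 2›] at this
    exact absurd this (by decide)
  have hd3 : Disjoint (S₁ ∪ S₂) S₃ := Finset.disjoint_left.2 fun u hu hu' => by
    simp only [S₁, S₂, S₃, Finset.mem_union, Finset.mem_filter, Finset.mem_univ, true_and] at hu hu'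
    rcases hu with hu | hu
    · rw [h.orderOf_eq_of_isConj hu, hi'] at hu'
      exact absurd (h.L_odd.of_dvd_nat hu'.2) (by decide)
    · rw [h.orderOf_eq_of_isConj hu, hx] at hu'
      exact h.hp.not_dvd_one (h.cop_pL ▸ Nat.dvd_gcd dvd_rfl hu'.2)
  have hle := Finset.card_le_card hsub
  rw [Finset.card_union_of_disjoint hd3, Finset.card_union_of_disjoint hd12,
    ← e (fun u => u ∈ N), hcard] at hle
  obtain ⟨l, rfl⟩ : ∃ l, L = l + 1 := ⟨L - 1, by have := h.hL; omega⟩
  rw [Nat.add_sub_cancel] at h3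
  have := h.hL
  have := h.two_le_M
  rcases h.hML with hh | hh <;> nlinarith

/-- An element `a` of order `M`; every involution is conjugate to `a ^ (M / 2)`. -/
theorem isConj_half {a : G} (ha : orderOf a = M) {i : G} (hi : orderOf i = 2) :
    IsConj i (a ^ (M / 2)) := by
  have hidx : (Subgroup.zpowers a).index % 4 = 2 := by
    have h1 := Subgroup.card_mul_index (Subgroup.zpowers a)
    rw [Nat.card_zpowers, ha, h.card] at h1
    rw [Nat.eq_of_mul_eq_mul_left h.M_pos (h1.trans (show 2 * q * M * L = M * (2 * (q * L)) by ring))]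
    obtain ⟨k, hk⟩ := h.q_odd.mul h.L_odd
    omega
  obtain ⟨g, hg⟩ := Fusion.Thompson.exists_conj_mem _ hidx h.no_index_two i hi
  refine isConj_iff.2 ⟨g, ?_⟩
  have h2 := Basic.invol_unique_zpowers ((Basic.orderOf_conj_eq g i).trans hi) hg
  rw [← ha]
  exact h2.2

end OddHyp

end Cfsg.Agent.Lib.PSLSpectrum
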