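import Cfsg.Agent.Lib.PSLSpectrum.OddCount
import Cfsg.Agent.S3282

/-!
# The centraliser of an involution is dihedral
-/

set_option autoImplicit false
set_option linter.unusedSectionVars false

namespace Cfsg.Agent.Lib.PSLSpectrum

open Cfsg.Agent.Lib.Involutions

variable {G : Type*} [Group G] [Finite G] {p q M L : ℕ}

/-- An element `a` of order `M` with the involution `t` in it. -/
structure Cen (G : Type*) [Group G] (p q M L : ℕ) (a t : G) : Prop where
  odd : OddHyp G p q M L
  ha : orderOf a = M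
  ht : t = a ^ (M / 2)

namespace Cen

variable {a t : G} (c : Cen G p q M L a t)
include c

set_option quotPrecheck false
local notation "A" => Subgroup.zpowers a
local notation "W" => Subgroup.centralizer ({t} : Set G)

theorem t_invol : orderOf t = 2 := by
  rw [c.ht, ← c.ha]
  exact Basic.orderOf_pow_half (c.ha.symm ▸ c.odd.hM)

theorem t_mem : t ∈ A := c.ht ▸ Subgroup.npow_mem_zpowers _ _

theorem card_A : Nat.card A = M := by rw [Nat.card_zpowers, c.ha]

theorem ord_A {y : G} (hy : y ∈ A) : orderOf y ∣ M := c.card_A ▸ Subgroup.orderOf_dvd_natCard _ hy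

theorem comm_A {x y : G} (hx : x ∈ A) (hy : y ∈ A) : x * y = y * x :=
  congrArg Subtype.val ((IsCyclic.commGroup (α := A)).mul_comm ⟨x, hx⟩ ⟨y, hy⟩)

theorem A_le_C {y : G} (hy : y ∈ A) : A ≤ Subgroup.centralizer ({y} : Set G) := fun _ hz =>
  Subgroup.mem_centralizer_singleton_iff.2 (c.comm_A hz hy)

theorem A_le_W : A ≤ W := c.A_le_C c.t_mem

theorem invol_A {z : G} (hz : z ∈ A) (h : orderOf z = 2) : z = t := by
  rw [(Basic.invol_unique_zpowers h hz).2, c.ha, c.ht]

theorem card_W_dvd : Nat.card W ∣ 2 * M :=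
  c.odd.card_centralizer_M (Basic.invol_ne_one c.t_invol) (c.ord_A c.t_mem)

theorem ord_W {x : G} (hx : x ∈ W) : orderOf x ∣ M :=
  c.odd.dvd_M_of_commute (Basic.invol_ne_one c.t_invol) (c.ord_A c.t_mem)
    (Subgroup.mem_centralizer_singleton_iff.1 hx)

/-- A centraliser of a non-identity element of `A` is `A` or has order `2M`. -/
theorem card_C {y : G} (hy : y ∈ A) (hy1 : y ≠ 1) :
    Subgroup.centralizer ({y} : Set G) = A ∨ Nat.card (Subgroup.centralizer ({y} : Set G)) = 2 * M := by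
  have h1 := c.odd.card_centralizer_M hy1 (c.ord_A hy)
  obtain ⟨k, hk⟩ := Subgroup.card_dvd_of_le (c.A_le_C hy)
  rw [c.card_A] at hk
  rw [hk, mul_comm 2, Nat.mul_dvd_mul_iff_left c.odd.M_pos, Nat.dvd_prime Nat.prime_two] at h1
  rcases h1 with rfl | rfl
  · exact Or.inl (Subgroup.eq_of_le_of_card_ge (c.A_le_C hy) (by rw [hk, mul_one, c.card_A])).symm
  · exact Or.inr (by rw [hk, mul_comm])

theorem W_cases : W = A ∨ Nat.card W = 2 * M := c.card_C c.t_mem (Basic.invol_ne_one c.t_invol)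

/-- `A` is normal in a centraliser containing it. -/
theorem conj_mem_A {y : G} (hy : y ∈ A) (hy1 : y ≠ 1) {x z : G}
    (hx : x ∈ Subgroup.centralizer ({y} : Set G)) (hz : z ∈ A) : x * z * x⁻¹ ∈ A := by
  rcases c.card_C hy hy1 with h | h
  · rw [h] at hx
    exact mul_mem (mul_mem hx hz) (inv_mem hx)
  · set C := Subgroup.centralizer ({y} : Set G)
    have hidx : ((A).subgroupOf C).index = 2 := by
      have h1 := Subgroup.card_mul_index ((A).subgroupOf C)
      rw [Nat.card_congr (Subgroup.subgroupOfEquivOfLe (c.A_le_C hy)).toEquiv, c.card_A, h,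
        mul_comm 2] at h1
      exact Nat.eq_of_mul_eq_mul_left c.odd.M_pos h1
    have := Subgroup.normal_of_index_eq_two hidx
    exact Subgroup.mem_subgroupOf.1 (this.conj_mem ⟨z, c.A_le_C hy hz⟩ hz ⟨x, hx⟩)

theorem conj_W {x z : G} (hx : x ∈ W) (hz : z ∈ A) : x * z * x⁻¹ ∈ A :=
  c.conj_mem_A c.t_mem (Basic.invol_ne_one c.t_invol) hx hz

theorem sq_mem_A {x : G} (hx : x ∈ W) : x * x ∈ A := by
  rcases c.W_cases with h | h
  · rw [h] at hx; exact mul_mem hx hx
  · have h1 := Subgroup.card_mul_index ((A).subgroupOf W)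
    rw [Nat.card_congr (Subgroup.subgroupOfEquivOfLe c.A_le_W).toEquiv, c.card_A, h,
      mul_comm 2] at h1
    exact Subgroup.mem_subgroupOf.1 (Subgroup.mul_self_mem_of_index_two
      (Nat.eq_of_mul_eq_mul_left c.odd.M_pos h1) ⟨x, hx⟩)

theorem cover (hW : Nat.card W = 2 * M) {s : G} (hs : s ∈ W) (hsA : s ∉ A) {x : G} (hx : x ∈ W) :
    x ∈ A ∨ s * x ∈ A := by
  by_cases hxA : x ∈ A
  · exact Or.inl hxA
  refine Or.inr ?_
  have hidx : ((A).subgroupOf W).index = 2 := by
    have h1 := Subgroup.card_mul_index ((A).subgroupOf W)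
    rw [Nat.card_congr (Subgroup.subgroupOfEquivOfLe c.A_le_W).toEquiv, c.card_A, hW,
      mul_comm 2] at h1
    exact Nat.eq_of_mul_eq_mul_left c.odd.M_pos h1
  exact Subgroup.mem_subgroupOf.1 ((Subgroup.mul_mem_iff_of_index_two hidx
    (a := (⟨s, hs⟩ : W)) (b := ⟨x, hx⟩)).2 (iff_of_false hsA hxA))

theorem t_central {x : G} (hx : x ∈ W) : x * t = t * x := Subgroup.mem_centralizer_singleton_iff.1 hx

/-- Abelian `C(t)` with two central involutions: its normaliser fixes `t`. -/
theorem fix_of_abelian (hM4 : 4 ≤ M) (hW : Nat.card W = 2 * M) {t' : G} (ht'W : t' ∈ W)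
    (ht'A : t' ∉ A) (ht' : orderOf t' = 2) (hab : ∀ x ∈ W, ∀ y ∈ W, x * y = y * x) {g : G}
    (hg : g ∈ Subgroup.normalizer ((W : Subgroup G) : Set G)) : g * t * g⁻¹ = t := by
  have hgW : ∀ x ∈ W, g * x * g⁻¹ ∈ W := fun x hx => (Subgroup.mem_normalizer_iff.1 hg x).1 hx
  by_cases h4 : 4 ∣ M
  · obtain ⟨m, hm⟩ := h4
    refine c.invol_A ?_ ((Basic.orderOf_conj_eq g t).trans c.t_invol)
    have e : t = a ^ m * a ^ m := by rw [c.ht, ← pow_add]; congr 1; omega
    rw [show g * t * g⁻¹ = (g * a ^ m * g⁻¹) * (g * a ^ m * g⁻¹) by rw [e]; group]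
    exact c.sq_mem_A (hgW _ (c.A_le_W (Subgroup.npow_mem_zpowers _ _)))
  · obtain ⟨m, hm⟩ := c.odd.hM
    have hmodd : Odd m := by
      rcases Nat.even_or_odd m with ⟨i, hi⟩ | hi
      · exact absurd ⟨i, by omega⟩ h4
      · exact hi
    set N := Subgroup.normalizer ((W : Subgroup G) : Set G) with hN
    have hWN : W ≤ N := Subgroup.le_normalizer
    set j := (W).relIndex N with hj
    have hjN : Nat.card N = 2 * M * j := by
      rw [hj, Subgroup.relIndex, ← hW,
        ← Nat.card_congr (Subgroup.subgroupOfEquivOfLe hWN).toEquiv]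
      exact (Subgroup.card_mul_index _).symm
    have hjn : j * N.index = q * L := by
      have h1 := Subgroup.card_mul_index N
      rw [hjN, c.odd.card] at h1
      refine Nat.eq_of_mul_eq_mul_left (show 0 < 2 * M by omega) ?_
      rw [← mul_assoc, h1]; ring
    have hjodd : Odd j := (c.odd.q_odd.mul c.odd.L_odd).of_dvd_nat (Dvd.intro _ hjn)
    have hj3 : j ≤ 3 := by
      classical
      rw [hj, Subgroup.relIndex, Subgroup.index_eq_card]
      have hinv : ∀ z ∈ W, orderOf z = 2 → z ∈ ({t, t', t' * t} : Finset G) := by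
        intro z hz hz2
        simp only [Finset.mem_insert, Finset.mem_singleton]
        rcases c.cover hW ht'W ht'A hz with h | h
        · exact Or.inl (c.invol_A h hz2)
        · have hsq : (t' * z) * (t' * z) = 1 := by
            calc t' * z * (t' * z) = t' * (z * t') * z := by group
              _ = (t' * t') * (z * z) := by rw [hab z hz t' ht'W]; group
              _ = 1 := by rw [Basic.invol_mul_self ht', Basic.invol_mul_self hz2, one_mul]
          have e : z = t' * (t' * z) := by rw [← mul_assoc, Basic.invol_mul_self ht', one_mul]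
          by_cases h1 : t' * z = 1
          · right; left; rw [e, h1, mul_one]
          · right; right; rw [e, c.invol_A h (Basic.invol_iff.2 ⟨hsq, h1⟩)]
      let φ : N ⧸ (W).subgroupOf N → ({t, t', t' * t} : Finset G) := fun x =>
        ⟨(x.out : G) * t * (x.out : G)⁻¹, hinv _ ((Subgroup.mem_normalizer_iff.1 x.out.2 t).1
          (c.A_le_W c.t_mem)) ((Basic.orderOf_conj_eq _ t).trans c.t_invol)⟩
      have hφ : Function.Injective φ := by
        intro x x' hxx
        have e : (x.out : G) * t * (x.out : G)⁻¹ = (x'.out : G) * t * (x'.out : G)⁻¹ :=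
          congrArg Subtype.val hxx
        rw [← QuotientGroup.out_eq' x, ← QuotientGroup.out_eq' x', QuotientGroup.eq,
          Subgroup.mem_subgroupOf, Subgroup.mem_centralizer_singleton_iff]
        push_cast
        calc (x.out : G)⁻¹ * x'.out * t
            = (x.out : G)⁻¹ * ((x'.out : G) * t * (x'.out : G)⁻¹) * x'.out := by group
          _ = t * ((x.out : G)⁻¹ * x'.out) := by rw [← e]; group
      refine (Nat.card_le_card_of_injective φ hφ).trans ?_
      rw [Nat.card_eq_fintype_card, Fintype.card_coe]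
      exact Finset.card_le_three
    have hCW : ∀ y ∈ W, y ≠ 1 → Subgroup.centralizer ({y} : Set G) = W := by
      intro y hy hy1
      refine (Subgroup.eq_of_le_of_card_ge (fun z hz =>
        Subgroup.mem_centralizer_singleton_iff.2 (hab z hz y hy)) ?_).symm
      rw [hW]
      exact Nat.le_of_dvd (by omega) (c.odd.card_centralizer_M hy1 (c.ord_W hy))
    have := Subgroup.normal_in_normalizer (H := (W : Subgroup G))
    set R := Subgroup.zpowers (a ^ 2)
    have hcardR : Nat.card R = m := by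
      rw [Nat.card_zpowers, orderOf_pow, c.ha, Nat.gcd_eq_right ⟨m, by omega⟩]
      omega
    have hRA : R ≤ A := Subgroup.zpowers_le.2 (Subgroup.npow_mem_zpowers _ _)
    have hfree : ∀ g' : G, g' ∉ N → ∀ r ∈ R, g'⁻¹ * r * g' ∈ N → r = 1 := by
      intro g' hg' r hr hrN
      by_contra hr1
      set y := g'⁻¹ * r * g' with hy
      have hyord : orderOf y = orderOf r := by
        have h1 := Basic.orderOf_conj_eq g'⁻¹ r
        rwa [inv_inv] at h1
      have hrm : orderOf r ∣ m := hcardR ▸ Subgroup.orderOf_dvd_natCard _ hr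
      have hy1 : y ≠ 1 := fun e => hr1 (orderOf_eq_one_iff.1 (by rw [← hyord, e, orderOf_one]))
      have hyW : y ∈ W := by
        have hj13 : j = 1 ∨ j = 3 := by obtain ⟨i, hi⟩ := hjodd; omega
        rcases hj13 with hj1 | hj1
        · exact (Subgroup.relIndex_eq_one.1 (hj ▸ hj1)) hrN
        have hy3 : y ^ 3 ∈ W := by
          have h1 := Subgroup.pow_index_mem ((W).subgroupOf N) ⟨y, hrN⟩
          rw [show ((W).subgroupOf N).index = 3 from hj1] at h1
          exact h1
        by_cases hy31 : y ^ 3 = 1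
        · have hy3o : orderOf y = 3 :=
            ((Nat.dvd_prime Nat.prime_three).1 (orderOf_dvd_of_pow_eq_one hy31)).resolve_left
              (mt orderOf_eq_one_iff.1 hy1)
          obtain ⟨i, hi⟩ : 3 ∣ m := hy3o ▸ hyord ▸ hrm
          set u := a ^ (2 * i) with hu
          have huA : u ∈ A := Subgroup.npow_mem_zpowers _ _
          have hu3 : orderOf u = 3 := by
            rw [hu, orderOf_pow, c.ha, Nat.gcd_eq_right ⟨3, by omega⟩]
            rw [Nat.div_eq_of_eq_mul_left (show 0 < 2 * i by omega) (show M = 3 * (2 * i) by omega)]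
          have hu1 : u ≠ 1 := fun e => by rw [e, orderOf_one] at hu3; omega
          set v := y * u * y⁻¹ with hv
          have hvW : v ∈ W := (Subgroup.mem_normalizer_iff.1 hrN u).1 (c.A_le_W huA)
          have hv3 : v ^ 3 = 1 := by rw [← hu3, ← Basic.orderOf_conj_eq y u, pow_orderOf_eq_one]
          have hvA : v ∈ A := by
            have e : v = (v * v) * (v * v) := by
              rw [show v * v * (v * v) = v ^ 3 * v by simp [pow_succ, mul_assoc], hv3, one_mul]
            rw [e]; exact mul_mem (c.sq_mem_A hvW) (c.sq_mem_A hvW)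
          obtain ⟨k, hk : a ^ k = v⟩ := hvA
          have hdiv : (M : ℤ) ∣ k * 3 := by
            rw [← c.ha, orderOf_dvd_iff_zpow_eq_one, zpow_mul, hk]
            exact_mod_cast hv3
          obtain ⟨l, hl⟩ : ((2 * i : ℕ) : ℤ) ∣ k := by
            obtain ⟨l, hl⟩ := hdiv
            have hM3 : (M : ℤ) = 3 * ((2 * i : ℕ) : ℤ) := by exact_mod_cast (show M = 3 * (2 * i) by omega)
            refine ⟨l, ?_⟩
            rw [hM3] at hl
            linarith
          have hvu : v = u ^ (l % 3) := by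
            rw [← hk, hl, zpow_mul, zpow_natCast, ← hu, ← zpow_mod_orderOf, hu3]
            norm_num
          have hl3 : l % 3 = 0 ∨ l % 3 = 1 ∨ l % 3 = 2 := by omega
          have hconj : ∀ z : G, y * z * y⁻¹ * (y * z * y⁻¹) = y * (z * z) * y⁻¹ := fun z => by group
          rcases hl3 with h0 | h0 | h0 <;> rw [h0] at hvu
          · exact absurd (by simpa [hv] using hvu) hu1
          · rw [← hCW u (c.A_le_W huA) hu1, Subgroup.mem_centralizer_singleton_iff]
            rw [hv, zpow_one] at hvu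
            exact mul_inv_eq_iff_eq_mul.1 hvu
          · exfalso
            have hvu' : y * u * y⁻¹ = u * u := by rw [← hv, hvu, zpow_two]
            have e : y ^ 3 * u * (y ^ 3)⁻¹ = y * (y * (y * u * y⁻¹) * y⁻¹) * y⁻¹ := by
              simp [pow_succ, mul_assoc]
            rw [hy31, hvu', ← hconj, hvu', ← hconj, ← hconj, hvu'] at e
            simp only [inv_one, mul_one, one_mul] at e
            have h7 : u ^ 7 = 1 := by
              rw [show u ^ 7 = u⁻¹ * ((u * u * (u * u)) * (u * u * (u * u))) by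
                simp [pow_succ, mul_assoc], ← e, inv_mul_cancel]
            have := orderOf_dvd_of_pow_eq_one h7
            rw [hu3] at this
            norm_num at this
        · rw [← hCW _ hy3 hy31, Subgroup.mem_centralizer_singleton_iff]
          exact (Commute.self_pow y 3).eq
      refine hg' (Subgroup.mem_normalizer_iff.2 fun z => ?_)
      have hrW := c.A_le_W (hRA hr)
      rw [← hCW r hrW hr1]
      constructor <;> intro hz
      · rw [hCW r hrW hr1, ← hCW y hyW hy1, Subgroup.mem_centralizer_singleton_iff] at hz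
        rw [Subgroup.mem_centralizer_singleton_iff]
        calc g' * z * g'⁻¹ * r = g' * (z * y) * g'⁻¹ := by rw [hy]; group
          _ = r * (g' * z * g'⁻¹) := by rw [hz, hy]; group
      · rw [Subgroup.mem_centralizer_singleton_iff] at hz
        rw [hCW r hrW hr1, ← hCW y hyW hy1, Subgroup.mem_centralizer_singleton_iff]
        calc z * y = g'⁻¹ * (g' * z * g'⁻¹ * r) * g' := by rw [hy]; group
          _ = y * z := by rw [hz, hy]; group
    have hmod := BSW.index_mod_card R N ((hRA.trans c.A_le_W).trans hWN) hfree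
    rw [hcardR] at hmod
    obtain ⟨d, hd⟩ := hmod
    have hi1 : 1 ≤ N.index := Nat.one_le_iff_ne_zero.2 Subgroup.index_ne_zero_of_finite
    have h1 : (q * L) % m = j % m := by
      rw [← hjn, show N.index = 1 + m * d by omega, show j * (1 + m * d) = j + m * (j * d) by ring,
        Nat.add_mul_mod_self_left]
    have h2 : (q * L) % m = 1 := by
      rw [← Nat.mod_mod_of_dvd (q * L) (show m ∣ M from ⟨2, by omega⟩), c.odd.qL_mod,
        Nat.one_mod_eq_one.2 (by omega)]
    have hj1 : j = 1 := by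
      obtain ⟨i, hi⟩ := hjodd
      rcases (show j = 1 ∨ j = 3 by omega) with h | h
      · exact h
      · exfalso
        rw [h2, h] at h1
        obtain ⟨l, hl⟩ := hmodd
        rcases Nat.lt_or_ge 3 m with h' | h'
        · rw [Nat.mod_eq_of_lt h'] at h1; omega
        · rw [show m = 3 by omega] at h1; simp at h1
    have hgW' : g ∈ W := (Subgroup.relIndex_eq_one.1 (hj ▸ hj1)) hg
    rw [c.t_central hgW', mul_inv_cancel_right]

/-- Fusion in `A` is controlled by `C(t)`. -/
theorem ti {y : G} (hy : y ∈ A) (hy1 : y ≠ 1) {g : G} (hg : g * y * g⁻¹ ∈ A) : g ∈ W := by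
  rw [Subgroup.mem_centralizer_singleton_iff]
  suffices h : g * t * g⁻¹ = t from mul_inv_eq_iff_eq_mul.1 h
  by_cases hM2 : M = 2
  · have key : ∀ z ∈ A, z ≠ 1 → z = t := fun z hz hz1 => c.invol_A hz
      (((Nat.dvd_prime Nat.prime_two).1 (hM2 ▸ c.ord_A hz)).resolve_left (mt orderOf_eq_one_iff.1 hz1))
    rw [key y hy hy1] at hg
    exact key _ hg (fun e => Basic.invol_ne_one c.t_invol (by simpa using e))
  have hM4 : 4 ≤ M := by obtain ⟨m, hm⟩ := c.odd.hM; have := c.odd.M_pos; omega
  set y' := g * y * g⁻¹ with hy'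
  have hy'1 : y' ≠ 1 := fun e => hy1 (by simpa [hy'] using e)
  have hconj : ∀ x, x ∈ Subgroup.centralizer ({y} : Set G) ↔
      g * x * g⁻¹ ∈ Subgroup.centralizer ({y'} : Set G) := by
    intro x
    rw [Subgroup.mem_centralizer_singleton_iff, Subgroup.mem_centralizer_singleton_iff, hy',
      show g * x * g⁻¹ * (g * y * g⁻¹) = g * (x * y) * g⁻¹ by group,
      show g * y * g⁻¹ * (g * x * g⁻¹) = g * (y * x) * g⁻¹ by group]
    exact ⟨fun e => by rw [e], fun e => mul_left_cancel (mul_right_cancel e)⟩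
  have hgt : orderOf (g * t * g⁻¹) = 2 := (Basic.orderOf_conj_eq g t).trans c.t_invol
  have htC : g * t * g⁻¹ ∈ Subgroup.centralizer ({y'} : Set G) :=
    (hconj t).1 (c.A_le_C hy c.t_mem)
  rcases c.card_C hg hy'1 with hC | hC
  · exact c.invol_A (hC ▸ htC) hgt
  have hcent : ∀ (z : G), z ∈ A → z ≠ 1 → Nat.card (Subgroup.centralizer ({z} : Set G)) = 2 * M →
      Subgroup.centralizer ({z} : Set G) = W := by
    intro z hz hz1 hzc
    refine Subgroup.eq_of_le_of_card_ge (fun x hx => ?_)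
      (hzc ▸ Nat.le_of_dvd (by omega) c.card_W_dvd)
    rw [Subgroup.mem_centralizer_singleton_iff]
    exact mul_inv_eq_iff_eq_mul.1 (c.invol_A (c.conj_mem_A hz hz1 hx c.t_mem)
      ((Basic.orderOf_conj_eq x t).trans c.t_invol))
  have hC'W := hcent y' hg hy'1 hC
  have hCyW : Subgroup.centralizer ({y} : Set G) = W := by
    refine hcent y hy hy1 ?_
    rw [← hC]
    exact Nat.card_congr ((MulAut.conj g).toEquiv.subtypeEquiv hconj)
  have hgN : g ∈ Subgroup.normalizer ((W : Subgroup G) : Set G) :=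
    Subgroup.mem_normalizer_iff.2 fun x => by
      conv_rhs => rw [← hC'W]
      rw [← hCyW]
      exact hconj x
  by_contra hne
  have hW2 : Nat.card W = 2 * M := hC'W ▸ hC
  have ht'W : g * t * g⁻¹ ∈ W := hC'W ▸ htC
  have ht'A : g * t * g⁻¹ ∉ A := fun h => hne (c.invol_A h hgt)
  have ht'c : ∀ x ∈ W, x * (g * t * g⁻¹) = (g * t * g⁻¹) * x := by
    intro x hx
    have hx' : g⁻¹ * x * g ∈ W :=
      (Subgroup.mem_normalizer_iff.1 (inv_mem hgN) x).1 hx |> fun h => by rwa [inv_inv] at h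
    calc x * (g * t * g⁻¹) = g * ((g⁻¹ * x * g) * t) * g⁻¹ := by group
      _ = g * t * g⁻¹ * x := by rw [c.t_central hx']; group
  refine hne (c.fix_of_abelian hM4 hW2 ht'W ht'A hgt ?_ hgN)
  set t' := g * t * g⁻¹
  have hform : ∀ x ∈ W, ∀ z ∈ A, x * z = z * x := by
    intro x hx z hz
    rcases c.cover hW2 ht'W ht'A hx with h | h
    · exact c.comm_A h hz
    · calc x * z = t' * (t' * x * z) := by rw [← mul_assoc, ← mul_assoc, Basic.invol_mul_self hgt, one_mul]
        _ = (t' * z) * (t' * x) := by rw [c.comm_A h hz, ← mul_assoc]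
        _ = z * x := by
          rw [← ht'c z (c.A_le_W hz), mul_assoc, ← mul_assoc t' t', Basic.invol_mul_self hgt, one_mul]
  intro x hx z hz
  rcases c.cover hW2 ht'W ht'A hz with h | h
  · exact hform x hx z h
  · calc x * z = x * (t' * (t' * z)) := by rw [← mul_assoc t', Basic.invol_mul_self hgt, one_mul]
      _ = t' * (x * (t' * z)) := by rw [← mul_assoc, ht'c x hx, mul_assoc]
      _ = t' * (t' * z * x) := by rw [hform x hx _ h]
      _ = z * x := by rw [← mul_assoc, ← mul_assoc, Basic.invol_mul_self hgt, one_mul]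

open Classical in
/-- The element count. -/
theorem count : q * M * (L - 1) + 2 * M * L + 1 + (W).index *
    Nat.card {x : W // (x : G) ≠ 1 ∧ ((x : G) ∈ A ∨ (x : G) * x ≠ 1)} ≤ 2 * q * M * L := by
  have := Fintype.ofFinite G
  obtain ⟨x₀, hx₀⟩ := c.odd.exists_p
  let T := {x : W // (x : G) ≠ 1 ∧ ((x : G) ∈ A ∨ (x : G) * x ≠ 1)}
  let f : (G ⧸ W) × T → G := fun z => z.1.out * (z.2.1 : G) * z.1.out⁻¹
  have hf : Function.Injective f := by
    rintro ⟨u, ⟨⟨x, hxW⟩, hx1, hxT⟩⟩ ⟨v, ⟨⟨y, hyW⟩, hy1, hyT⟩⟩ e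
    simp only [f] at e hx1 hxT hy1 hyT
    have hh : (v.out⁻¹ * u.out) * x * (v.out⁻¹ * u.out)⁻¹ = y := by
      calc (v.out⁻¹ * u.out) * x * (v.out⁻¹ * u.out)⁻¹ = v.out⁻¹ * (u.out * x * u.out⁻¹) * v.out := by group
        _ = y := by rw [e]; group
    have hhW : v.out⁻¹ * u.out ∈ W := by
      by_cases hsq : x * x = 1
      · have hxA := hxT.resolve_right (fun h => h hsq)
        refine c.ti hxA hx1 ?_
        rw [hh]
        refine hyT.resolve_right fun h => h ?_
        rw [← hh, show (v.out⁻¹ * u.out) * x * (v.out⁻¹ * u.out)⁻¹ *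
            ((v.out⁻¹ * u.out) * x * (v.out⁻¹ * u.out)⁻¹) =
          (v.out⁻¹ * u.out) * (x * x) * (v.out⁻¹ * u.out)⁻¹ by group, hsq, mul_one, mul_inv_cancel]
      · refine c.ti (c.sq_mem_A hxW) hsq ?_
        rw [show (v.out⁻¹ * u.out) * (x * x) * (v.out⁻¹ * u.out)⁻¹ =
          (v.out⁻¹ * u.out) * x * (v.out⁻¹ * u.out)⁻¹ *
            ((v.out⁻¹ * u.out) * x * (v.out⁻¹ * u.out)⁻¹) by group, hh]
        exact c.sq_mem_A hyW
    have huv : u = v := by
      rw [← QuotientGroup.out_eq' u, ← QuotientGroup.out_eq' v]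
      exact (QuotientGroup.eq.2 hhW).symm
    subst huv
    simp only [inv_mul_cancel, one_mul, inv_one, mul_one] at hh
    subst hh
    rfl
  let S₀ : Finset G := {1}
  let S₁ := (Finset.univ : Finset G).filter fun y => y ≠ 1 ∧ orderOf y ∣ L
  let S₂ := (Finset.univ : Finset G).filter fun u => IsConj x₀ u
  let S₃ := (Finset.univ : Finset ((G ⧸ W) × T)).image f
  have e : ∀ (P : G → Prop) [DecidablePred P],
      Nat.card {u : G // P u} = ((Finset.univ : Finset G).filter P).card := fun P _ => by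
    rw [Nat.card_eq_fintype_card, Fintype.card_subtype]
  have h1 : q * M * (L - 1) ≤ S₁.card := c.odd.card_L_elements.trans_eq (e _)
  have h2 : 2 * M * L ≤ S₂.card := (c.odd.class_p hx₀).trans_eq (e _)
  have h3 : S₃.card = (W).index * Nat.card T := by
    rw [Finset.card_image_of_injective _ hf, Finset.card_univ, ← Nat.card_eq_fintype_card,
      Nat.card_prod, Subgroup.index_eq_card]
  have h0 : S₀.card = 1 := rfl
  have m1 : ∀ u ∈ S₁, u ≠ 1 ∧ orderOf u ∣ L := fun u hu => (Finset.mem_filter.1 hu).2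
  have m2 : ∀ u ∈ S₂, orderOf u = p := fun u hu =>
    (c.odd.orderOf_eq_of_isConj (Finset.mem_filter.1 hu).2).trans hx₀
  have m3 : ∀ u ∈ S₃, u ≠ 1 ∧ orderOf u ∣ M := by
    intro u hu
    obtain ⟨z, -, rfl⟩ := Finset.mem_image.1 hu
    exact ⟨fun e1 => z.2.2.1 (by simpa [f] using e1),
      (Basic.orderOf_conj_eq z.1.out _).symm ▸ c.ord_W z.2.1.2⟩
  have hne : ∀ u : G, u ≠ 1 → ∀ {X Y : ℕ}, X.Coprime Y → orderOf u ∣ X → orderOf u ∣ Y → False :=
    fun u hu _ _ hc hx hy => hu (orderOf_eq_one_iff.1 (Nat.eq_one_of_dvd_coprimes hc hx hy))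
  have p1 : ∀ u ∈ S₂, u ≠ 1 := fun u hu e1 => c.odd.hp.ne_one (by rw [← m2 u hu, e1, orderOf_one])
  have d01 : Disjoint S₀ S₁ := Finset.disjoint_singleton_left.2 fun hu => (m1 1 hu).1 rfl
  have d2 : Disjoint (S₀ ∪ S₁) S₂ := Finset.disjoint_left.2 fun u hu hu2 => by
    rcases Finset.mem_union.1 hu with hu | hu
    · exact p1 u hu2 (Finset.mem_singleton.1 hu)
    · exact hne u (p1 u hu2) c.odd.cop_pL (m2 u hu2 ▸ dvd_rfl) (m1 u hu).2
  have d3 : Disjoint (S₀ ∪ S₁ ∪ S₂) S₃ := Finset.disjoint_left.2 fun u hu hu3 => by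
    rcases Finset.mem_union.1 hu with hu | hu
    · rcases Finset.mem_union.1 hu with hu | hu
      · exact (m3 u hu3).1 (Finset.mem_singleton.1 hu)
      · exact hne u (m3 u hu3).1 c.odd.cop_ML (m3 u hu3).2 (m1 u hu).2
    · exact hne u (m3 u hu3).1 c.odd.cop_pM (m2 u hu ▸ dvd_rfl) (m3 u hu3).2
  have hle := Finset.card_le_univ (S₀ ∪ S₁ ∪ S₂ ∪ S₃)
  rw [Finset.card_union_of_disjoint d3, Finset.card_union_of_disjoint d2,
    Finset.card_union_of_disjoint d01, h0, h3, ← Nat.card_eq_fintype_card, c.odd.card] at hle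
  show _ + _ * Nat.card T ≤ _
  omega

/-- `C(t)` is dihedral: an involution outside `A` inverts `A`. -/
theorem exists_inverting : ∃ s ∈ W, s ∉ A ∧ orderOf s = 2 ∧ Nat.card W = 2 * M ∧
    ∀ x ∈ A, s * x * s⁻¹ = x⁻¹ := by
  classical
  have hcount := c.count
  have hidx := Subgroup.card_mul_index W
  rw [c.odd.card] at hidx
  have := c.odd.hL
  have := c.odd.five_le_q
  have := c.odd.two_le_M
  have := Fintype.ofFinite G
  set P : W → Prop := fun x => (x : G) ≠ 1 ∧ ((x : G) ∈ A ∨ (x : G) * x ≠ 1)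
  set J := ((Finset.univ : Finset W).filter fun x : W => (x : G) ∉ A ∧ (x : G) * x = 1).card with hJdef
  have hT : Nat.card {x : W // P x} + J + 1 = Nat.card W := by
    rw [Nat.card_eq_fintype_card, Fintype.card_subtype, Nat.card_eq_fintype_card (α := W),
      ← Finset.card_univ, hJdef, add_assoc]
    rw [← Finset.card_filter_add_card_filter_not (s := (Finset.univ : Finset W)) P]
    congr 1
    rw [show ((Finset.univ : Finset W).filter fun x => ¬ P x) =
      insert 1 ((Finset.univ : Finset W).filter fun x : W => (x : G) ∉ A ∧ (x : G) * x = 1) from ?_,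
      Finset.card_insert_of_notMem (by simp [one_mem])]
    ext x
    simp only [P, Finset.mem_filter, Finset.mem_univ, true_and, Finset.mem_insert, not_and_or,
      not_not, not_or, OneMemClass.coe_eq_one]
  rcases c.W_cases with hW | hW
  · exfalso
    have hJ0 : J = 0 := by
      rw [hJdef, Finset.card_eq_zero]
      refine Finset.filter_false_of_mem fun x _ hx => hx.1 ?_
      exact (SetLike.ext_iff.1 hW (x : G)).1 x.2
    have hcW : Nat.card W = M := by rw [hW, c.card_A]
    rw [hcW] at hidx hT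
    have hi : (W).index = 2 * q * L :=
      Nat.eq_of_mul_eq_mul_left c.odd.M_pos (hidx.trans (by ring))
    obtain ⟨l, rfl⟩ : ∃ l, L = l + 1 := ⟨L - 1, by omega⟩
    obtain ⟨m, rfl⟩ : ∃ m, M = m + 2 := ⟨M - 2, by omega⟩
    rw [hi, show Nat.card {x : W // P x} = m + 1 by omega, Nat.add_sub_cancel] at hcount
    rcases c.odd.hML with hh | hh <;> nlinarith
  have hi : (W).index = q * L := by
    rw [hW] at hidx
    exact Nat.eq_of_mul_eq_mul_left (show 0 < 2 * M by omega) (hidx.trans (by ring))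
  rw [hW] at hT
  have hJ : J ≠ 0 := by
    intro h0
    obtain ⟨l, rfl⟩ : ∃ l, L = l + 1 := ⟨L - 1, by omega⟩
    obtain ⟨m, rfl⟩ : ∃ m, M = m + 2 := ⟨M - 2, by omega⟩
    rw [hi, show Nat.card {x : W // P x} = 2 * m + 3 by omega, Nat.add_sub_cancel] at hcount
    nlinarith [Nat.mul_le_mul_left (q * l) (show 2 ≤ m + 2 by omega),
      Nat.mul_le_mul_left q (show l + 1 ≤ 2 * l by omega)]
  obtain ⟨⟨s, hsW⟩, hs⟩ := Finset.card_ne_zero.1 hJ
  simp only [Finset.mem_filter, Finset.mem_univ, true_and] at hs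
  obtain ⟨hsA, hss⟩ := hs
  have hs2 : orderOf s = 2 := Basic.invol_iff.2 ⟨hss, fun e => hsA (e ▸ one_mem A)⟩
  refine ⟨s, hsW, hsA, hs2, hW, ?_⟩
  let H : Subgroup G :=
    { carrier := {x | x ∈ A ∧ s * x * s⁻¹ = x⁻¹}
      one_mem' := ⟨one_mem A, by group⟩
      mul_mem' := fun {x y} hx hy => ⟨mul_mem hx.1 hy.1, by
        rw [show s * (x * y) * s⁻¹ = (s * x * s⁻¹) * (s * y * s⁻¹) by group, hx.2, hy.2,
          mul_inv_rev, c.comm_A (inv_mem hx.1) (inv_mem hy.1)]⟩
      inv_mem' := fun {x} hx => ⟨inv_mem hx.1, by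
        rw [show s * x⁻¹ * s⁻¹ = (s * x * s⁻¹)⁻¹ by group, hx.2]⟩ }
  intro x hx
  suffices h : A ≤ H from (h hx).2
  have hHA : H ≤ A := fun z hz => hz.1
  by_contra hne
  have hlt : Nat.card H < M := by
    refine lt_of_le_of_ne ((Subgroup.card_le_of_le hHA).trans_eq c.card_A) fun e => hne ?_
    rw [Subgroup.eq_of_le_of_card_ge hHA (by rw [c.card_A, e])]
  have hH2 : 2 * Nat.card H ≤ M := by
    obtain ⟨k, hk⟩ := Subgroup.card_dvd_of_le hHA
    rw [c.card_A] at hk
    rcases Nat.lt_or_ge k 2 with hk2 | hk2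
    · interval_cases k <;> omega
    · rw [hk, mul_comm 2]; exact Nat.mul_le_mul_left _ hk2
  have hJH : J ≤ Nat.card H := by
    rw [hJdef, ← Fintype.card_coe, ← Nat.card_eq_fintype_card]
    refine Nat.card_le_card_of_injective (fun z => (⟨s * (z.1 : G), ?_⟩ : H)) ?_
    · obtain ⟨h1, h2⟩ := (Finset.mem_filter.1 z.2).2
      refine ⟨(c.cover hW hsW hsA z.1.2).resolve_left h1, ?_⟩
      rw [mul_inv_rev, inv_eq_of_mul_eq_one_right h2, inv_eq_of_mul_eq_one_right hss,
        ← mul_assoc, hss, one_mul]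
    · intro z z' e1
      exact Subtype.ext (Subtype.ext (mul_left_cancel (congrArg Subtype.val e1 :)))
  have hM4 : 4 ≤ M := by
    obtain ⟨m, hm⟩ := c.odd.hM
    by_contra h4
    apply hne
    intro z hz
    refine ⟨hz, ?_⟩
    have hM2 : M = 2 := by omega
    by_cases hz1 : z = 1
    · rw [hz1]; group
    · rw [c.invol_A hz (((Nat.dvd_prime Nat.prime_two).1 (hM2 ▸ c.ord_A hz)).resolve_left
        (mt orderOf_eq_one_iff.1 hz1)), c.t_central hsW, mul_inv_cancel_right,
        Basic.invol_inv c.t_invol]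
  obtain ⟨l, rfl⟩ : ∃ l, L = l + 1 := ⟨L - 1, by omega⟩
  rw [hi, Nat.add_sub_cancel] at hcount
  have hx1 : q * (l + 1) * (2 * (2 * M)) ≤
      q * (l + 1) * (2 * Nat.card {x : W // P x} + M + 2) :=
    Nat.mul_le_mul_left _ (by omega)
  have hq : q ≤ 2 * M + 1 := by rcases c.odd.hML with hh | hh <;> omega
  have hMl : M + 2 * l ≤ M * l := by nlinarith
  have h5 := Nat.mul_le_mul_left q hMl
  have h6 : 1 * (4 * M) ≤ (l + 1) * (4 * M) := Nat.mul_le_mul_right _ (by omega)
  linarith

/-- The conclusion of the Brauer-Suzuki-Wall theorem, with `|Q| = q`. -/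
theorem exists_QD : ∃ Q D : Subgroup G, Nat.card Q = q ∧
    (∀ x ∈ Q, x ≠ 1 → Subgroup.centralizer ({x} : Set G) = Q) ∧
    IsMulCommutative ↥D ∧ 2 * Nat.card D + 1 = q ∧ Q ⊓ D = ⊥ ∧
    Subgroup.normalizer (Q : Set G) = Q ⊔ D ∧
    ∀ X : Subgroup G, X ≤ D → X ≠ ⊥ →
      Subgroup.normalizer (X : Set G) = Subgroup.normalizer (D : Set G) ∧
      ∃ u : G, orderOf u = 2 ∧ u ∉ D ∧ (∀ d ∈ D, u * d * u⁻¹ = d⁻¹) ∧
        Subgroup.normalizer (D : Set G) = D ⊔ Subgroup.zpowers u := by
  obtain ⟨s, hsW, hsA, hs2, hW, hinv⟩ := c.exists_inverting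
  have hH : A ⊔ Subgroup.zpowers s = W := by
    refine le_antisymm (sup_le c.A_le_W (Subgroup.zpowers_le.2 hsW)) fun x hx => ?_
    rcases c.cover hW hsW hsA hx with h | h
    · exact Subgroup.mem_sup_left h
    · rw [show x = s * (s * x) by rw [← mul_assoc, Basic.invol_mul_self hs2, one_mul]]
      exact mul_mem (Subgroup.mem_sup_right (Subgroup.mem_zpowers s)) (Subgroup.mem_sup_left h)
  have hCK : A ⊓ Subgroup.centralizer ({s} : Set G) = Subgroup.zpowers t := by
    refine le_antisymm (fun x hx => ?_) (Subgroup.zpowers_le.2 ⟨c.t_mem, ?_⟩)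
    · have h1 := hinv x hx.1
      rw [← Subgroup.mem_centralizer_singleton_iff.1 hx.2, mul_inv_cancel_right] at h1
      by_cases hx1 : x = 1
      · exact hx1 ▸ one_mem _
      · rw [c.invol_A hx.1 (Basic.invol_iff.2 ⟨(congrArg (x * ·) h1).trans (mul_inv_cancel x), hx1⟩)]
        exact Subgroup.mem_zpowers t
    · exact Subgroup.mem_centralizer_singleton_iff.2 (c.t_central hsW).symm
  have hTI : ∀ g : G, g ∉ W → A ⊓ (A).map (MulAut.conj g).toMonoidHom = ⊥ := by
    intro g hg
    refine (Subgroup.eq_bot_iff_forall _).2 fun x hx => ?_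
    obtain ⟨hxA, y, hy, rfl⟩ := hx
    simp only [MulEquiv.coe_toMonoidHom, MulAut.conj_apply] at hxA ⊢
    by_contra hne
    exact hg (c.ti hy (fun e => hne (by rw [e]; group)) hxA)
  obtain ⟨Q, D, hcard, hC, hDab, hD, hQD, hN, hX⟩ := Cfsg.Agent.S3282.result t c.t_invol A
    ⟨⟨fun x y => Subtype.ext (c.comm_A x.2 y.2)⟩⟩ c.A_le_W c.t_mem s hs2 hsW hsA hH hCK hinv hTI
    (fun x y hx hy => (c.ht ▸ c.odd.isConj_half c.ha hx).trans
      (c.ht ▸ c.odd.isConj_half c.ha hy).symm)
  have hQq : Nat.card Q = q := by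
    rw [c.odd.card] at hcard
    have hD1 : 0 < Nat.card D := Nat.card_pos
    rcases c.odd.hML with ⟨h1, h2⟩ | ⟨h1, h2⟩
    · rw [← hD, Nat.add_sub_cancel] at hcard
      rcases lt_trichotomy (Nat.card D) M with hlt | heq | hgt
      · exfalso; subst h1 h2; nlinarith [Nat.mul_lt_mul_of_lt_of_lt hlt hlt]
      · omega
      · exfalso; subst h1 h2; nlinarith [Nat.mul_lt_mul_of_lt_of_lt hgt hgt]
    · rw [← hD, Nat.add_sub_cancel] at hcard
      have h1' : q = 2 * L + 1 := by omega
      rcases lt_trichotomy (Nat.card D) L with hlt | heq | hgt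
      · exfalso; subst h1' h2; nlinarith [Nat.mul_lt_mul_of_lt_of_lt hlt hlt]
      · omega
      · exfalso; subst h1' h2; nlinarith [Nat.mul_lt_mul_of_lt_of_lt hgt hgt]
  exact ⟨Q, D, hQq, hC, hDab, hQq ▸ hD, hQD, hN, hX⟩

end Cen

end Cfsg.Agent.Lib.PSLSpectrum
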