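import Cfsg.Agent.Lib.PSLSpectrum.OddInvol
import Cfsg.Agent.Lib.Zassenhaus.AbelianCases
import Cfsg.Agent.Lib.Linear.Order
import Cfsg.Agent.Lib.SmallGroups.ProjLine

/-!
# The action on the conjugates of `Q`: recognition of `PSL₂(q)`
-/

set_option autoImplicit false
set_option linter.unusedSectionVars false

namespace Cfsg.Agent.Lib.PSLSpectrum

open Cfsg.Agent.Lib.Involutions
open MulAction
open scoped Pointwise

variable {G : Type*} [Group G] [Finite G] {p q M L : ℕ}

theorem OddHyp.iso_psl (h : OddHyp G p q M L) :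
    ∃ (K : Type) (_ : Field K) (_ : Fintype K), Fintype.card K = q ∧
      Nonempty (G ≃* Matrix.ProjectiveSpecialLinearGroup (Fin 2) K) := by
  classical
  obtain ⟨a₀, ha₀⟩ := h.hA
  obtain ⟨Q, D, hQ, hC, hDab, hD, hQD, hN, hX⟩ :=
    (Cen.mk h ha₀ rfl : Cen G p q M L a₀ (a₀ ^ (M / 2))).exists_QD
  have := h.five_le_q
  set N := Subgroup.normalizer (Q : Set G) with hNdef
  have hQN : Q ≤ N := Subgroup.le_normalizer
  have hDN : D ≤ N := hN ▸ le_sup_right
  have hN2 : (N : Subgroup G) = Q ⊔ D := hN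
  have hcardN : Nat.card N = q * Nat.card D := by
    have hset : ((Q ⊔ D : Subgroup G) : Set G) = (Q : Set G) * (D : Set G) :=
      Subgroup.coe_mul_of_right_le_normalizer_left Q D hDN
    rw [hN2, ← hQ, ← Nat.card_prod]
    refine (Nat.card_eq_of_bijective (fun z : Q × D => (⟨(z.1 : G) * z.2,
      mul_mem (Subgroup.mem_sup_left z.1.2) (Subgroup.mem_sup_right z.2.2)⟩ : (Q ⊔ D : Subgroup G)))
      ⟨?_, ?_⟩).symm
    · rintro ⟨⟨u, hu⟩, ⟨d, hd⟩⟩ ⟨⟨u', hu'⟩, ⟨d', hd'⟩⟩ e
      have e' : u * d = u' * d' := congrArg Subtype.val e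
      have h1 : u'⁻¹ * u = 1 := by
        rw [← Subgroup.mem_bot, ← hQD]
        refine Subgroup.mem_inf.2 ⟨mul_mem (inv_mem hu') hu, ?_⟩
        rw [show u'⁻¹ * u = d' * d⁻¹ by
          calc u'⁻¹ * u = u'⁻¹ * (u * d) * d⁻¹ := by group
            _ = d' * d⁻¹ := by rw [e']; group]
        exact mul_mem hd' (inv_mem hd)
      have hu2 : u = u' := (inv_mul_eq_one.1 h1).symm
      subst hu2
      have hd2 := mul_left_cancel e'
      subst hd2
      rfl
    · rintro ⟨x, hx⟩
      obtain ⟨u, hu, d, hd, e⟩ : x ∈ (Q : Set G) * (D : Set G) := hset ▸ hx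
      exact ⟨(⟨u, hu⟩, ⟨d, hd⟩), Subtype.ext e⟩
  have hidx : N.index = q + 1 := by
    have h1 := Subgroup.card_mul_index N
    rw [hcardN, h.card] at h1
    have h2 : q * Nat.card D * (q + 1) = 2 * q * M * L := by
      rcases h.hML with ⟨e1, e2⟩ | ⟨e1, e2⟩
      · rw [show Nat.card D = M by omega, show q + 1 = 2 * L by omega]; ring
      · rw [show Nat.card D = L by omega, show q + 1 = 2 * M by omega]; ring
    exact Nat.eq_of_mul_eq_mul_left (Nat.mul_pos (by omega) Nat.card_pos) (h1.trans h2.symm)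
  have hDq : (Nat.card D).Coprime q := by
    rw [← hD, show 2 * Nat.card D + 1 = 1 + Nat.card D * 2 by ring]
    exact (Nat.coprime_add_mul_left_right _ _ _).2 (Nat.coprime_one_right _)
  have hQmem : ∀ y ∈ N, orderOf y ∣ q → y ∈ Q := by
    intro y hy hyq
    refine mem_of_mem_normalizer hy (Nat.Coprime.coprime_dvd_left hyq ?_)
    have hr : Q.relIndex N = Nat.card D := by
      have h1 := Subgroup.card_mul_index (Q.subgroupOf N)
      rw [Nat.card_congr (Subgroup.subgroupOfEquivOfLe hQN).toEquiv, hQ, hcardN] at h1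
      exact Nat.eq_of_mul_eq_mul_left (by omega) h1
    rw [← hNdef, hr]
    exact hDq.symm
  have hNQ : ∀ g : G, g ∈ N ↔ ∀ x, x ∈ Q ↔ g * x * g⁻¹ ∈ Q := fun g => Subgroup.mem_normalizer_iff
  let o : G ⧸ N := QuotientGroup.mk 1
  have hfixo : ∀ g : G, g • o = o ↔ g ∈ N := by
    intro g
    rw [MulAction.Quotient.smul_mk, QuotientGroup.eq]
    simp
  -- `Q` is regular off `o`
  have hfree : ∀ u ∈ Q, ∀ y : G ⧸ N, y ≠ o → u • y = y → u = 1 := by
    intro u hu y hy huy
    by_contra hu1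
    obtain ⟨g, rfl⟩ := QuotientGroup.mk_surjective y
    have hgN : g ∉ N := fun hg => hy (QuotientGroup.eq.2 (by simpa using hg))
    rw [MulAction.Quotient.smul_mk, QuotientGroup.eq, smul_eq_mul] at huy
    set v := g⁻¹ * u * g with hv
    have hvN : v ∈ N := by
      rw [hv, show g⁻¹ * u * g = ((u * g)⁻¹ * g)⁻¹ by group]
      exact inv_mem huy
    have hvQ : v ∈ Q := hQmem v hvN (by
      have h1 := Basic.orderOf_conj_eq g⁻¹ u
      rw [inv_inv] at h1
      rw [hv, h1, ← hQ]
      exact Subgroup.orderOf_dvd_natCard _ hu)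
    have hv1 : v ≠ 1 := fun e => hu1 (by
      calc u = g * v * g⁻¹ := by rw [hv]; group
        _ = 1 := by rw [e]; group)
    refine hgN ((hNQ g).2 fun x => ?_)
    rw [← hC v hvQ hv1]
    conv_rhs => rw [hC v hvQ hv1, ← hC u hu hu1]
    rw [Subgroup.mem_centralizer_singleton_iff, Subgroup.mem_centralizer_singleton_iff]
    constructor <;> intro e
    · calc g * x * g⁻¹ * u = g * (x * v) * g⁻¹ := by rw [hv]; group
        _ = u * (g * x * g⁻¹) := by rw [e, hv]; group
    · calc x * v = g⁻¹ * (g * x * g⁻¹ * u) * g := by rw [hv]; group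
        _ = v * x := by rw [e, hv]; group
  have hcardΩ : Nat.card (G ⧸ N) = q + 1 := by rw [← Subgroup.index_eq_card, hidx]
  have hne : ∀ u ∈ Q, ∀ y : G ⧸ N, y ≠ o → u • y ≠ o := fun u hu y hy e => hy
    (MulAction.injective u (e.trans ((hfixo u).2 (hQN hu)).symm))
  have hreg : ∀ y z : G ⧸ N, y ≠ o → z ≠ o → ∃! u : Q, (u : G) • y = z := by
    intro y z hy hz
    have hinj : Function.Injective
        (fun u : Q => (⟨(u : G) • y, hne u u.2 y hy⟩ : {w : G ⧸ N // w ≠ o})) := by
      intro u v e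
      have e' : (u : G) • y = (v : G) • y := congrArg Subtype.val e
      refine Subtype.ext (inv_mul_eq_one.1 (hfree _ (mul_mem (inv_mem v.2) u.2) y hy ?_)).symm
      rw [mul_smul, e', inv_smul_smul]
    have hb := hinj.bijective_of_nat_card_le (le_of_eq (by
      have := Fintype.ofFinite (G ⧸ N)
      rw [hQ, Nat.card_eq_fintype_card, Fintype.card_subtype_compl, Fintype.card_subtype_eq,
        ← Nat.card_eq_fintype_card, hcardΩ, Nat.add_sub_cancel]))
    obtain ⟨u, hu⟩ := hb.2 ⟨z, hz⟩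
    exact ⟨u, congrArg Subtype.val hu, fun v hv => hb.1 (Subtype.ext (hv.trans
      (congrArg Subtype.val hu).symm))⟩
  have hD1 : D ≠ ⊥ := fun e => by
    rw [e, Subgroup.card_bot] at hD
    omega
  obtain ⟨-, u, hu2, huD, huinv, hND⟩ := hX D le_rfl hD1
  have hcardND : Nat.card (Subgroup.normalizer (D : Set G)) = 2 * Nat.card D := by
    have hle : Subgroup.zpowers u ≤ Subgroup.normalizer (D : Set G) := by
      rw [hND]; exact le_sup_right
    have hset : ((D ⊔ Subgroup.zpowers u : Subgroup G) : Set G) =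
        (D : Set G) * (Subgroup.zpowers u : Set G) :=
      Subgroup.coe_mul_of_right_le_normalizer_left D _ hle
    rw [hND, mul_comm]
    conv_rhs => rw [← hu2, ← Nat.card_zpowers, ← Nat.card_prod]
    refine (Nat.card_eq_of_bijective (fun z : D × Subgroup.zpowers u => (⟨(z.1 : G) * z.2,
      mul_mem (Subgroup.mem_sup_left z.1.2) (Subgroup.mem_sup_right z.2.2)⟩ :
        (D ⊔ Subgroup.zpowers u : Subgroup G))) ⟨?_, ?_⟩).symm
    · rintro ⟨⟨x, hx⟩, ⟨d, hd⟩⟩ ⟨⟨x', hx'⟩, ⟨d', hd'⟩⟩ e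
      have e' : x * d = x' * d' := congrArg Subtype.val e
      have h1 : x'⁻¹ * x ∈ Subgroup.zpowers u := by
        rw [show x'⁻¹ * x = d' * d⁻¹ by
          calc x'⁻¹ * x = x'⁻¹ * (x * d) * d⁻¹ := by group
            _ = d' * d⁻¹ := by rw [e']; group]
        exact mul_mem hd' (inv_mem hd)
      have h2 : x'⁻¹ * x = 1 := by
        by_contra hne1
        obtain ⟨k, hk : u ^ k = x'⁻¹ * x⟩ := h1
        rw [← zpow_mod_orderOf, hu2] at hk
        rcases Int.emod_two_eq k with h0 | h0 <;> norm_num [h0] at hk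
        · exact hne1 hk.symm
        · exact huD (hk ▸ mul_mem (inv_mem hx') hx)
      have hx2 : x = x' := (inv_mul_eq_one.1 h2).symm
      subst hx2
      have hd2 := mul_left_cancel e'
      subst hd2
      rfl
    · rintro ⟨x, hx⟩
      obtain ⟨d, hd, w, hw, e⟩ : x ∈ (D : Set G) * (Subgroup.zpowers u : Set G) := hset ▸ hx
      exact ⟨(⟨d, hd⟩, ⟨w, hw⟩), Subtype.ext e⟩
  have hNDN : ∀ g ∈ N, g ∈ Subgroup.normalizer (D : Set G) → g ∈ D := by
    intro g hg hgD
    refine (?_ : N ⊓ Subgroup.normalizer (D : Set G) ≤ D) ⟨hg, hgD⟩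
    have hle : D ≤ N ⊓ Subgroup.normalizer (D : Set G) := le_inf hDN Subgroup.le_normalizer
    refine (Subgroup.eq_of_le_of_card_ge hle ?_).ge
    have h1 := Subgroup.card_dvd_of_le (inf_le_left : N ⊓ Subgroup.normalizer (D : Set G) ≤ N)
    have h2 := Subgroup.card_dvd_of_le
      (inf_le_right : N ⊓ Subgroup.normalizer (D : Set G) ≤ Subgroup.normalizer (D : Set G))
    rw [hcardN] at h1
    rw [hcardND] at h2
    have h3 := Nat.dvd_gcd h1 h2
    rw [Nat.gcd_mul_right, Nat.Coprime.gcd_eq_one (Nat.coprime_two_right.2 h.q_odd), one_mul] at h3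
    exact Nat.le_of_dvd Nat.card_pos h3
  have huN : u ∉ N := fun hun => huD (hNDN u hun (by
    rw [hND]; exact Subgroup.mem_sup_right (Subgroup.mem_zpowers u)))
  let b : G ⧸ N := QuotientGroup.mk u
  have hbo : b ≠ o := fun e => huN (by
    have h1 := QuotientGroup.eq.1 e.symm
    simpa using h1)
  have hDb : ∀ d ∈ D, d • b = b := by
    intro d hd
    rw [MulAction.Quotient.smul_mk, QuotientGroup.eq, smul_eq_mul]
    rw [show (d * u)⁻¹ * u = u⁻¹ * (d⁻¹) * u by group]
    have h1 := huinv d⁻¹ (inv_mem hd)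
    rw [inv_inv] at h1
    have e : u⁻¹ * d⁻¹ * u = d := by
      conv_lhs => rw [Basic.invol_inv hu2]
      conv at h1 => rw [Basic.invol_inv hu2]
      exact h1
    rw [e]
    exact hDN hd
  -- transitivity
  have h2t : IsMultiplyPretransitive G (G ⧸ N) 2 := by
    rw [is_two_pretransitive_iff]
    intro x y x' y' hxy hxy'
    obtain ⟨g, hg⟩ := exists_smul_eq G x o
    obtain ⟨g', hg'⟩ := exists_smul_eq G x' o
    obtain ⟨v, hv, -⟩ := hreg (g • y) (g' • y') (fun e => hxy (smul_left_cancel g (hg.trans e.symm)))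
      (fun e => hxy' (smul_left_cancel g' (hg'.trans e.symm)))
    refine ⟨g'⁻¹ * v * g, ?_, ?_⟩
    · rw [mul_smul, mul_smul, hg, (hfixo v).2 (hQN v.2), ← hg', inv_smul_smul]
    · rw [mul_smul, mul_smul, hv, inv_smul_smul]
  -- the stabiliser of `o` and `b` is `D`
  have hpairD : ∀ g : G, g • o = o → g • b = b → g ∈ D := by
    intro g hgo hgb
    have hgN := (hfixo g).1 hgo
    obtain ⟨v, hv, d, hd, e⟩ : g ∈ (Q : Set G) * (D : Set G) := by
      rw [← Subgroup.coe_mul_of_right_le_normalizer_left Q D hDN, ← hN2]; exact hgN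
    change v * d = g at e
    have hv1 : v = 1 := hfree v hv b hbo (by
      conv_lhs => rw [← hDb d hd, ← mul_smul, e]
      exact hgb)
    rw [← e, hv1, one_mul]
    exact hd
  have hthree : ∀ g : G, ∀ x y z : G ⧸ N, x ≠ y → y ≠ z → x ≠ z →
      g • x = x → g • y = y → g • z = z → g = 1 := by
    intro g x y z hxy hyz hxz hgx hgy hgz
    obtain ⟨k, hk1, hk2⟩ : ∃ k : G, k • x = o ∧ k • y = b :=
      (is_two_pretransitive_iff.1 h2t) hxy hbo.symm
    set d := k * g * k⁻¹ with hd
    have hfixd : ∀ w : G ⧸ N, g • w = w → d • (k • w) = k • w := fun w hw => by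
      rw [hd, mul_smul, mul_smul, inv_smul_smul, hw]
    have hdD : d ∈ D := hpairD d (hk1 ▸ hfixd x hgx) (hk2 ▸ hfixd y hgy)
    by_contra hg1
    have hd1 : d ≠ 1 := fun e => hg1 (by
      calc g = k⁻¹ * d * k := by rw [hd]; group
        _ = 1 := by rw [e]; group)
    set c := k • z with hc
    have hco : c ≠ o := fun e => hxz (smul_left_cancel k (hk1.trans e.symm))
    have hcb : c ≠ b := fun e => hyz (smul_left_cancel k (hk2.trans e.symm))
    obtain ⟨v, hv, -⟩ := hreg b c hbo hco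
    -- `v⁻¹ d v` also fixes `o` and `b`
    have hd' : (v : G)⁻¹ * d * v ∈ D := by
      refine hpairD _ ?_ ?_
      · rw [mul_smul, mul_smul, (hfixo v).2 (hQN v.2), (hfixo d).2 (hDN hdD), inv_smul_eq_iff,
          (hfixo v).2 (hQN v.2)]
      · rw [mul_smul, mul_smul, hv, hc, hfixd z hgz, ← hc, ← hv, inv_smul_smul]
    have hd'1 : (v : G)⁻¹ * d * v ≠ 1 := fun e => hd1 (by
      calc d = (v : G) * ((v : G)⁻¹ * d * v) * (v : G)⁻¹ := by group
        _ = 1 := by rw [e]; group)
    have e1 := (hX (Subgroup.zpowers d) (Subgroup.zpowers_le.2 hdD)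
      (by simpa using hd1)).1
    have e2 := (hX (Subgroup.zpowers ((v : G)⁻¹ * d * v)) (Subgroup.zpowers_le.2 hd')
      (by simpa using hd'1)).1
    have hmap : (Subgroup.zpowers ((v : G)⁻¹ * d * v)).map (MulAut.conj (v : G)).toMonoidHom =
        Subgroup.zpowers d := by
      rw [MonoidHom.map_zpowers]
      congr 1
      simp [MulAut.conj_apply, mul_assoc]
    have hvn : (Subgroup.normalizer (D : Set G)).map (MulAut.conj (v : G)).toMonoidHom =
        Subgroup.normalizer (D : Set G) := by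
      conv_lhs => rw [← e2, Subgroup.map_equiv_normalizer_eq, hmap, e1]
    have hvD : ∀ w ∈ D, (v : G) * w * (v : G)⁻¹ ∈ D := by
      intro w hw
      refine hNDN _ (mul_mem (mul_mem (hQN v.2) (hDN hw)) (inv_mem (hQN v.2))) ?_
      rw [← hvn]
      exact ⟨w, Subgroup.le_normalizer hw, rfl⟩
    have hvN : (v : G) ∈ Subgroup.normalizer (D : Set G) := by
      refine Subgroup.mem_normalizer_iff.2 fun w => ⟨hvD w, fun hw => ?_⟩
      have hmapD : D.map (MulAut.conj (v : G)).toMonoidHom = D := by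
        refine Subgroup.eq_of_le_of_card_ge ?_ ?_
        · rintro _ ⟨w', hw', rfl⟩; exact hvD w' hw'
        · rw [Subgroup.card_map_of_injective (MulAut.conj (v : G)).injective]
      rw [← hmapD] at hw
      obtain ⟨w', hw', e⟩ := hw
      have : w' = w := (MulAut.conj (v : G)).injective (e.trans (MulAut.conj_apply _ _).symm)
      exact this ▸ hw'
    exact hcb (hv.symm.trans (hDb _ (hNDN v (hQN v.2) hvN)))
  -- no regular normal subgroup
  have hno : ∀ K : Subgroup G, K.Normal → IsPretransitive K (G ⧸ N) →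
      ∃ x : G ⧸ N, stabilizer K x ≠ ⊥ := by
    intro K hK htr
    refine ⟨o, fun hbot => ?_⟩
    have hcK : Nat.card K = q + 1 := by
      have h1 := Subgroup.card_mul_index (stabilizer K o)
      rw [hbot, Subgroup.card_bot, one_mul, ← hbot, index_stabilizer_of_transitive K o, hcardΩ] at h1
      exact h1.symm
    have heven : Even (Nat.card K) := hcK ▸ h.q_odd.add_one
    have : Fact (Nat.Prime 2) := ⟨Nat.prime_two⟩
    obtain ⟨i, hi⟩ := exists_prime_orderOf_dvd_card' (G := K) 2 heven.two_dvd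
    have hi' : orderOf (i : G) = 2 := by rw [Subgroup.orderOf_coe, hi]
    have h1 := (h.class_invol hi').trans (Nat.card_le_card_of_injective
      (β := K) (fun z => ⟨z.1, by
        obtain ⟨g, hg⟩ := isConj_iff.1 z.2
        exact hg ▸ hK.conj_mem _ i.2 g⟩) (fun z z' e => Subtype.ext (congrArg Subtype.val e :)))
    have := h.hL
    rw [hcK] at h1
    have := Nat.mul_le_mul_left q this
    omega
  have hfaith : FaithfulSMul G (G ⧸ N) := by
    refine ⟨fun {g₁ g₂} e => ?_⟩
    obtain ⟨c, hcc⟩ : ∃ c : G ⧸ N, c ≠ o ∧ c ≠ b := by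
      by_contra hall
      push Not at hall
      have := Fintype.ofFinite (G ⧸ N)
      have h1 : (Finset.univ : Finset (G ⧸ N)) ⊆ {o, b} := fun x _ => by
        by_cases hx : x = o
        · simp [hx]
        · simp [hall x hx]
      have h2 := (Finset.card_le_card h1).trans Finset.card_le_two
      rw [Finset.card_univ, ← Nat.card_eq_fintype_card, hcardΩ] at h2
      omega
    have h1 := hthree (g₂⁻¹ * g₁) o b c hbo.symm hcc.2.symm hcc.1.symm
      (by rw [mul_smul, e, inv_smul_smul]) (by rw [mul_smul, e, inv_smul_smul])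
      (by rw [mul_smul, e, inv_smul_smul])
    exact (inv_mul_eq_one.1 h1).symm
  have hpair : ∃ g : G, g ≠ 1 ∧ ∃ x y : G ⧸ N, x ≠ y ∧ g • x = x ∧ g • y = y := by
    obtain ⟨⟨d, hd⟩, hd1⟩ := Subgroup.ne_bot_iff_exists_ne_one.1 hD1
    exact ⟨d, fun e => hd1 (Subtype.ext e), o, b, hbo.symm, (hfixo d).2 (hDN hd), hDb d hd⟩
  have hZ : Cfsg.IsZassenhausGroup G (G ⧸ N) := ⟨hfaith, h2t, hthree, hpair, hno⟩
  have hU : Zassenhaus.AbKernel o b Q :=
    { le := fun x hx => mem_stabilizer_iff.2 ((hfixo x).2 (hQN hx))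
      conj := fun g hg x hx => ((hNQ g).1 ((hfixo g).1 hg) x).1 hx
      comm := fun x hx y hy => by
        by_cases hy1 : y = 1
        · simp [hy1]
        · rw [← hC y hy hy1] at hx
          exact Subgroup.mem_centralizer_singleton_iff.1 hx
      reg := fun z hz => hreg b z hbo hz }
  rcases Zassenhaus.sharp_or_psl hZ hbo.symm hU with ⟨h3, hstab⟩ | ⟨K, iK, iF, hchar, ⟨i⟩⟩
  · exfalso
    have := Fintype.ofFinite (G ⧸ N)
    have hcardS : Fintype.card (G ⧸ N) = q + 1 := by rw [← Nat.card_eq_fintype_card, hcardΩ]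
    have t : Fin 3 ↪ G ⧸ N := Classical.choice
      (Function.Embedding.nonempty_of_card_le (by rw [Fintype.card_fin, hcardS]; omega))
    haveI : IsPretransitive G (Fin 3 ↪ G ⧸ N) := h3
    have h1 := index_stabilizer_of_transitive G t
    rw [hstab t, Subgroup.index_bot, Nat.card_eq_fintype_card (α := Fin 3 ↪ G ⧸ N),
      Fintype.card_embedding_eq, hcardS, Fintype.card_fin, h.card] at h1
    simp only [Nat.descFactorial_succ, Nat.descFactorial_zero, mul_one, Nat.sub_zero,
      Nat.add_sub_cancel] at h1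
    have := h.hL
    have := h.two_le_M
    rcases h.hML with ⟨e1, e2⟩ | ⟨e1, e2⟩
    · subst e1 e2
      rw [show 2 * M + 1 + 1 - 2 = 2 * M by omega] at h1
      have : 0 < (2 * M + 1) * M * (M + 1) := by positivity
      nlinarith
    · obtain ⟨rfl⟩ : q = 2 * L + 1 ∧ True := ⟨by omega, trivial⟩
      subst e2
      rw [show 2 * L + 1 + 1 - 2 = 2 * L by omega] at h1
      have : 0 < (2 * L + 1) * L * (L + 1) := by positivity
      nlinarith
  · refine ⟨K, iK, iF, ?_, ⟨i⟩⟩
    have hodd : Odd (Fintype.card K) := Nat.odd_iff.mpr (FiniteField.odd_card_of_char_ne_two hchar)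
    have h1 := Linear.two_mul_card_PSL_two_of_odd hodd
    rw [← Nat.card_congr i.toEquiv, h.card] at h1
    obtain ⟨j, hj⟩ := hodd
    rw [hj, Nat.add_sub_cancel] at h1
    rw [hj]
    rcases h.hML with ⟨e1, e2⟩ | ⟨e1, e2⟩
    · subst e1 e2
      rcases lt_trichotomy j M with hlt | heq | hgt
      · nlinarith [Nat.mul_lt_mul_of_lt_of_lt hlt hlt]
      · omega
      · nlinarith [Nat.mul_lt_mul_of_lt_of_lt hgt hgt]
    · obtain ⟨rfl⟩ : q = 2 * L + 1 ∧ True := ⟨by omega, trivial⟩
      subst e2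
      rcases lt_trichotomy j L with hlt | heq | hgt
      · nlinarith [Nat.mul_lt_mul_of_lt_of_lt hlt hlt]
      · omega
      · nlinarith [Nat.mul_lt_mul_of_lt_of_lt hgt hgt]

end Cfsg.Agent.Lib.PSLSpectrum
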